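import Cfsg.Agent.Blocks88.RealVector.Weil
import Mathlib.LinearAlgebra.FiniteDimensional.Basic
import Mathlib.LinearAlgebra.Basis.VectorSpace
import Mathlib.Algebra.Module.ZMod

/-!
# From an invariant non-degenerate form to a square root of `|U : C_U(h)|`
-/

set_option autoImplicit false

open scoped ComplexConjugate
open Cfsg.Agent.BlocksCore

namespace Cfsg.Agent.Blocks88.RealVector

universe u v

variable {p : ℕ} [hp : Fact p.Prime] {H : Type u} [Group H] [Fintype H] {U : Type v} [AddCommGroup U]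
  [DistribMulAction H U] [Finite U] (M : Ideal Cfsg.AlgInt)

/-- An invariant subgroup with a square root on it. -/
structure GoodSub (E : AddSubgroup U) (f : H → ℂ) : Prop where
  inv : ∀ (h : H), ∀ u ∈ E, h • u ∈ E
  virt : IntVirt f
  cm : ∀ (σ : ℂ →+* ℂ) (h : H), σ (conj (f h)) = conj (σ (f h))
  one : f 1 = 1
  norm : ∀ h, f h * conj (f h) * (Nat.card ↥(E ⊓ fixSub U h) : ℂ) = (Nat.card E : ℂ)
  small : ∀ h, (∃ u ∈ E, h • u ≠ u) → MemLocalIdeal M (f h)

variable {M}

theorem zmod_two_eq_one : ∀ a : ZMod 2, a ≠ 0 → a = 1 := by decide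

theorem goodSub_bot : GoodSub M (⊥ : AddSubgroup U) (1 : H → ℂ) where
  inv h u hu := by rw [AddSubgroup.mem_bot] at hu ⊢; rw [hu, smul_zero]
  virt := IntVirt.one
  cm σ h := by simp
  one := rfl
  norm h := by rw [bot_inf_eq]; simp
  small h := fun ⟨u, hu, hne⟩ => absurd (by rw [AddSubgroup.mem_bot.mp hu, smul_zero]) hne

theorem card_sup {E F : AddSubgroup U} (h : E ⊓ F = ⊥) :
    Nat.card ↥(E ⊔ F) = Nat.card E * Nat.card F := by
  rw [← Nat.card_prod]
  refine (Nat.card_congr (Equiv.ofBijective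
    (fun x : E × F => (⟨(x.1 : U) + x.2, AddSubgroup.mem_sup.mpr ⟨_, x.1.2, _, x.2.2, rfl⟩⟩ :
      ↥(E ⊔ F))) ⟨fun x y e => ?_, fun z => ?_⟩)).symm
  · have e' : ((x.1 - y.1 : E) : U) = ((y.2 - x.2 : F) : U) := by
      simp only [AddSubgroup.coe_sub]
      rw [sub_eq_sub_iff_add_eq_add]
      exact (congrArg Subtype.val e).trans (add_comm _ _)
    have h0 : ((x.1 - y.1 : E) : U) = 0 := by
      rw [← AddSubgroup.mem_bot, ← h]
      exact ⟨(x.1 - y.1).2, e' ▸ (y.2 - x.2).2⟩
    have h0' := e'.symm.trans h0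
    simp only [AddSubgroup.coe_sub, sub_eq_zero] at h0 h0'
    exact Prod.ext (Subtype.ext h0) (Subtype.ext h0'.symm)
  · obtain ⟨a, ha, b, hb, e⟩ := AddSubgroup.mem_sup.mp z.2
    exact ⟨(⟨a, ha⟩, ⟨b, hb⟩), Subtype.ext e⟩

theorem GoodSub.sup [M.IsPrime] {E F : AddSubgroup U} {f g : H → ℂ} (hE : GoodSub M E f)
    (hF : GoodSub M F g) (hd : E ⊓ F = ⊥) : GoodSub M (E ⊔ F) (f * g) where
  inv h u hu := by
    obtain ⟨a, ha, b, hb, rfl⟩ := AddSubgroup.mem_sup.mp hu
    rw [smul_add]
    exact AddSubgroup.mem_sup.mpr ⟨_, hE.inv h a ha, _, hF.inv h b hb, rfl⟩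
  virt := hE.virt.mul hF.virt
  cm σ h := by simp [hE.cm σ h, hF.cm σ h]
  one := by simp [hE.one, hF.one]
  norm h := by
    have e : (E ⊔ F) ⊓ fixSub U h = (E ⊓ fixSub U h) ⊔ (F ⊓ fixSub U h) := by
      refine le_antisymm (fun z hz => ?_) (sup_le
        (inf_le_inf_right _ le_sup_left) (inf_le_inf_right _ le_sup_right))
      obtain ⟨hz1, hz2⟩ := hz
      obtain ⟨a, ha, b, hb, rfl⟩ := AddSubgroup.mem_sup.mp hz1
      have h2 := mem_fixSub.mp hz2
      rw [smul_add] at h2
      have h3 : h • a - a = b - h • b := by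
        rw [sub_eq_sub_iff_add_eq_add, h2, add_comm]
      have h4 : h • a - a = 0 := by
        rw [← AddSubgroup.mem_bot, ← hd]
        exact AddSubgroup.mem_inf.mpr ⟨E.sub_mem (hE.inv h a ha) ha, h3 ▸ F.sub_mem hb (hF.inv h b hb)⟩
      rw [h4] at h3
      exact AddSubgroup.mem_sup.mpr ⟨a, ⟨ha, mem_fixSub.mpr (sub_eq_zero.mp h4)⟩, b,
        ⟨hb, mem_fixSub.mpr (sub_eq_zero.mp h3.symm).symm⟩, rfl⟩
    rw [e, card_sup (le_bot_iff.mp ((inf_le_inf inf_le_left inf_le_left).trans hd.le)),
      card_sup hd, Nat.cast_mul, Nat.cast_mul, ← hE.norm h, ← hF.norm h]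
    simp only [Pi.mul_apply, map_mul]
    ring
  small h := by
    rintro ⟨u, hu, hne⟩
    obtain ⟨a, ha, b, hb, rfl⟩ := AddSubgroup.mem_sup.mp hu
    by_cases hfa : h • a = a
    · have hfb : h • b ≠ b := fun hfb => hne (by rw [smul_add, hfa, hfb])
      exact memLocalIdeal_mul_left (memLocalRing_of_isIntegral (hE.virt.isIntegral h))
        (hF.small h ⟨b, hb, hfb⟩)
    · exact memLocalIdeal_mul_right (hE.small h ⟨a, ha, hfa⟩)
        (memLocalRing_of_isIntegral (hF.virt.isIntegral h))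

/-- The action on an invariant subgroup. -/
abbrev subAction (E : AddSubgroup U) (hE : ∀ (h : H), ∀ u ∈ E, h • u ∈ E) :
    DistribMulAction H E where
  smul h u := ⟨h • (u : U), hE h u u.2⟩
  one_smul u := Subtype.ext (one_smul H (u : U))
  mul_smul h k u := Subtype.ext (mul_smul h k (u : U))
  smul_zero h := Subtype.ext (smul_zero h)
  smul_add h u w := Subtype.ext (smul_add h (u : U) w)

theorem exists_goodSub_of_eta (E : AddSubgroup U) (hE : ∀ (h : H), ∀ u ∈ E, h • u ∈ E)
    (hf : ∃ f : H → ℂ, @Eta _ _ M E _ (subAction E hE) _ f) : ∃ f : H → ℂ, GoodSub M E f := by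
  letI := subAction E hE
  obtain ⟨f, hf⟩ := hf
  have hfix : ∀ h : H, fixCard E h = Nat.card ↥(E ⊓ fixSub U h) := fun h =>
    Nat.card_congr
      { toFun := fun u => ⟨(u.1 : U), u.1.2, mem_fixSub.mpr (congrArg Subtype.val u.2)⟩
        invFun := fun u => ⟨⟨(u : U), u.2.1⟩, Subtype.ext (mem_fixSub.mp u.2.2)⟩
        left_inv := fun _ => rfl
        right_inv := fun _ => rfl }
  refine ⟨f, hE, hf.virt, hf.cm, hf.one, fun h => ?_, fun h ⟨u, hu, hne⟩ => hf.small h fun e => ?_⟩
  · rw [← hfix]; exact hf.norm h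
  · have : Nat.card {w : E // h • w = w} = Nat.card E := e
    have hall : ∀ w : E, h • w = w := by
      by_contra hc
      push Not at hc
      obtain ⟨w, hw⟩ := hc
      exact absurd this (Finite.card_subtype_lt (p := fun w : E => h • w = w) hw).ne
    exact hne (congrArg Subtype.val (hall ⟨u, hu⟩))

theorem exists_projection {U : Type v} [AddCommGroup U] [Module (ZMod p) U] (Y : AddSubgroup U) :
    ∃ π : U →+ U, (∀ u, π u ∈ Y) ∧ ∀ y ∈ Y, π y = y := by
  obtain ⟨f, hf⟩ := LinearMap.exists_leftInverse_of_injective (AddSubgroup.toZModSubmodule p Y).subtype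
    (Submodule.ker_subtype _)
  exact ⟨AddMonoidHom.mk' (fun u => (f u : U)) fun a b => by simp, fun u => (f u).2, fun y hy =>
    congrArg Subtype.val (LinearMap.congr_fun hf ⟨y, hy⟩)⟩

section Form

variable (hU : ∀ u : U, p • u = 0) (hcop : (Nat.card H).Coprime p) (β : U → U → ZMod p)
  (hl : ∀ x y z, β (x + y) z = β x z + β y z) (hr : ∀ x y z, β x (y + z) = β x y + β x z)
  (hi : ∀ (h : H) x y, β (h • x) (h • y) = β x y)

include hl in
theorem beta_sum_left {ι : Type*} (s : Finset ι) (f : ι → U) (y : U) :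
    β (∑ i ∈ s, f i) y = ∑ i ∈ s, β (f i) y :=
  map_sum (AddMonoidHom.mk' (fun x => β x y) fun a b => hl a b y) f s

include hr in
theorem beta_sum_right {ι : Type*} (s : Finset ι) (x : U) (f : ι → U) :
    β x (∑ i ∈ s, f i) = ∑ i ∈ s, β x (f i) :=
  map_sum (AddMonoidHom.mk' (fun y => β x y) (hr x)) f s

include hl in
theorem beta_zero_left (y : U) : β 0 y = 0 :=
  map_zero (AddMonoidHom.mk' (fun x => β x y) fun a b => hl a b y)

include hr in
theorem beta_zero_right (x : U) : β x 0 = 0 :=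
  map_zero (AddMonoidHom.mk' (fun y => β x y) (hr x))

/-- Left radical inside a subgroup. -/
def radLeft (E : AddSubgroup U) : AddSubgroup U where
  carrier := {x | x ∈ E ∧ ∀ y ∈ E, β x y = 0}
  add_mem' := fun ⟨ha, ha'⟩ ⟨hb, hb'⟩ => ⟨add_mem ha hb, fun y hy => by rw [hl, ha' y hy, hb' y hy, add_zero]⟩
  zero_mem' := ⟨zero_mem _, fun y _ => beta_zero_left β hl y⟩
  neg_mem' := fun {a} ⟨ha, ha'⟩ => ⟨neg_mem ha, fun y hy => by
    have := hl a (-a) y
    rw [add_neg_cancel, beta_zero_left β hl, ha' y hy, zero_add] at this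
    exact this.symm⟩

include hU hcop hl hr hi in
/-- A form nonzero on a minimal invariant subgroup gives a square root on it. -/
theorem exists_goodSub_simple (hM : Cfsg.IsPModular p M) (E : AddSubgroup U)
    (hE : ∀ (h : H), ∀ u ∈ E, h • u ∈ E)
    (hmin : ∀ E' : AddSubgroup U, (∀ (h : H), ∀ u ∈ E', h • u ∈ E') → E' ≤ E → E' = ⊥ ∨ E' = E)
    (hne : ∃ x ∈ E, ∃ y ∈ E, β x y ≠ 0) (hmove : ∀ x ∈ E, (∀ h : H, h • x = x) → x = 0) :
    ∃ f : H → ℂ, GoodSub M E f := by
  classical
  have := Fintype.ofFinite E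
  letI := subAction E hE
  refine exists_goodSub_of_eta E hE ?_
  have hUE : ∀ u : E, p • u = 0 := fun u => Subtype.ext (by simpa using hU (u : U))
  -- bilinear forms without a radical
  have nd : ∀ γ : U → U → ZMod p, ∀ gl : (∀ x y z, γ (x + y) z = γ x z + γ y z),
      (∀ (h : H) x y, γ (h • x) (h • y) = γ x y) → (∃ x ∈ E, ∃ y ∈ E, γ x y ≠ 0) →
      ∀ x ∈ E, (∀ y ∈ E, γ x y = 0) → x = 0 := by
    intro γ gl gi ⟨a, ha, b, hb, hab⟩ x hx hx0
    rcases hmin (radLeft γ gl E) (fun h u hu => ⟨hE h u hu.1, fun y hy => by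
      rw [← gi h⁻¹, inv_smul_smul]
      exact hu.2 _ (hE _ y hy)⟩) (fun u hu => hu.1) with h | h
    · rw [← AddSubgroup.mem_bot, ← h]
      exact ⟨hx, hx0⟩
    · exact absurd ((h.symm ▸ ha : a ∈ radLeft γ gl E).2 b hb) hab
  by_cases halt : ∃ x ∈ E, ∃ y ∈ E, β x y - β y x ≠ 0
  · -- not symmetric
    refine exists_eta_weil (c := fun x y : E => β x y) (fun x y z => hl x y z)
      (fun x y z => hr x y z) (fun w hw => ?_) (fun h x y => hi h x y) hM hUE hcop
    refine Subtype.ext (nd (fun x y => β x y - β y x) (fun x y z => by rw [hl, hr]; ring)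
      (fun h x y => by rw [hi, hi]) halt w w.2 fun y hy => ?_)
    rw [sub_eq_zero]
    exact (hw ⟨y, hy⟩).symm
  push Not at halt
  have hsym : ∀ x ∈ E, ∀ y ∈ E, β x y = β y x := fun x hx y hy => sub_eq_zero.mp (halt x hx y hy)
  have hnd : ∀ x ∈ E, (∀ y ∈ E, β x y = 0) → x = 0 := nd β hl hi hne
  rcases hp.out.eq_two_or_odd' with h2 | hodd
  · -- characteristic two
    subst h2
    have hdiag : ∀ x ∈ E, β x x = 0 := by
      let D : AddSubgroup U :=
        { carrier := {x | x ∈ E ∧ β x x = 0}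
          zero_mem' := ⟨zero_mem _, beta_zero_left β hl 0⟩
          add_mem' := fun {a b} ⟨ha, ha'⟩ ⟨hb, hb'⟩ => ⟨add_mem ha hb, by
            rw [hl, hr, hr, ha', hb', hsym a ha b hb, zero_add, add_zero]
            exact CharTwo.add_self_eq_zero _⟩
          neg_mem' := fun {a} ⟨ha, ha'⟩ => ⟨neg_mem ha, by
            have : -a = a := neg_eq_of_add_eq_zero_left (by simpa [two_nsmul] using hU a)
            rw [this]; exact ha'⟩ }
      rcases hmin D (fun h u hu => ⟨hE h u hu.1, by rw [hi]; exact hu.2⟩) (fun u hu => hu.1) with h | h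
      · intro x hx
        by_contra hxx
        -- `E` is then of order two, hence fixed
        refine hxx ?_
        have huniq : ∀ y ∈ E, β y y ≠ 0 → y = x := by
          intro y hy hyy
          have hmem : y + x ∈ D := ⟨add_mem hy hx, by
            rw [hl, hr, hr, hsym y hy x hx]
            rw [zmod_two_eq_one _ hxx, zmod_two_eq_one _ hyy]
            linear_combination (CharTwo.add_self_eq_zero (β x y)) + (CharTwo.add_self_eq_zero (1 : ZMod 2))⟩
          rw [h, AddSubgroup.mem_bot] at hmem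
          rw [eq_neg_of_add_eq_zero_left hmem]
          exact neg_eq_of_add_eq_zero_left (by simpa [two_nsmul] using hU x)
        rw [hmove x hx fun k => huniq _ (hE k x hx) (by rw [hi]; exact hxx), beta_zero_left β hl]
      · exact fun x hx => ((h.symm ▸ hx : x ∈ D)).2
    letI : Module (ZMod 2) E := AddCommGroup.zmodModule hUE
    let b := Module.Basis.ofVectorSpace (ZMod 2) E
    have := Fintype.ofFinite (Module.Basis.ofVectorSpaceIndex (ZMod 2) E)
    obtain ⟨ord⟩ : Nonempty (LinearOrder (Module.Basis.ofVectorSpaceIndex (ZMod 2) E)) :=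
      ⟨linearOrderOfSTO (WellOrderingRel)⟩
    set I := Module.Basis.ofVectorSpaceIndex (ZMod 2) E with hI
    set q₀ : E → ZMod 2 := fun x =>
      ∑ i : I, ∑ j : I, if i < j then b.repr x i * b.repr x j * β (b i : U) (b j : U) else 0 with hq0
    have hpol : ∀ x y : E, q₀ (x + y) - q₀ x - q₀ y = β x y := by
      intro x y
      have hexp : ∀ z : E, (z : U) = ∑ i : I, (b.repr z i).val • (b i : U) := by
        intro z
        conv_lhs => rw [← b.sum_repr z]
        rw [AddSubmonoidClass.coe_finsetSum]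
        refine Finset.sum_congr rfl fun i _ => ?_
        rw [show b.repr z i • b i = (b.repr z i).val • b i by
          rw [← Nat.cast_smul_eq_nsmul (ZMod 2), ZMod.natCast_zmod_val]]
        simp
      have hb : β x y = ∑ i : I, ∑ j : I, b.repr x i * b.repr y j * β (b i : U) (b j : U) := by
        conv_lhs => rw [hexp x, hexp y]
        rw [beta_sum_left β hl]
        refine Finset.sum_congr rfl fun i _ => ?_
        rw [beta_sum_right β hr]
        refine Finset.sum_congr rfl fun j _ => ?_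
        have e1 : ∀ (n : ℕ) (u w : U), β (n • u) w = n • β u w := fun n u w =>
          map_nsmul (AddMonoidHom.mk' (fun x => β x w) fun a b => hl a b w) n u
        have e2 : ∀ (n : ℕ) (u w : U), β u (n • w) = n • β u w := fun n u w =>
          map_nsmul (AddMonoidHom.mk' (fun y => β u y) (hr u)) n w
        rw [e1, e2, nsmul_eq_mul, nsmul_eq_mul, ZMod.natCast_zmod_val, ZMod.natCast_zmod_val]
        ring
      set Bm : I → I → ZMod 2 := fun i j => β (b i : U) (b j : U) with hBm
      have hBs : ∀ i j, Bm i j = Bm j i := fun i j => hsym _ (b i).2 _ (b j).2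
      have hBd : ∀ i, Bm i i = 0 := fun i => hdiag _ (b i).2
      rw [hb]
      have e : ∀ i j : I, b.repr x i * b.repr y j * Bm i j =
          (if i < j then b.repr x i * b.repr y j * Bm i j else 0) +
          (if j < i then b.repr x i * b.repr y j * Bm i j else 0) := by
        intro i j
        rcases lt_trichotomy i j with h | h | h
        · rw [if_pos h, if_neg h.not_gt, add_zero]
        · subst h; simp [hBd]
        · rw [if_neg h.not_gt, if_pos h, zero_add]
      simp only [hBm] at e ⊢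
      rw [Finset.sum_congr rfl fun i _ => Finset.sum_congr rfl fun j _ => e i j]
      simp only [Finset.sum_add_distrib]
      rw [Finset.sum_comm (f := fun i j => if j < i then b.repr x i * b.repr y j * β (b i : U) (b j : U) else 0)]
      simp only [hq0, map_add, Finsupp.coe_add, Pi.add_apply, ← Finset.sum_sub_distrib,
        ← Finset.sum_add_distrib]
      refine Finset.sum_congr rfl fun i _ => Finset.sum_congr rfl fun j _ => ?_
      rw [show β (b j : U) (b i : U) = β (b i) (b j) from hBs j i]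
      split_ifs with h
      · ring
      · simp
    have hoddH : ((Fintype.card H : ℕ) : ZMod 2) = 1 := by
      have : Odd (Fintype.card H) := by
        rw [← Nat.card_eq_fintype_card, ← Nat.coprime_two_right]
        exact hcop
      exact (ZMod.natCast_eq_one_iff_odd).mpr this
    set q : E → ZMod 2 := fun x => ∑ h : H, q₀ (h • x) with hq
    have hqp : ∀ x y : E, q (x + y) - q x - q y = β x y := by
      intro x y
      simp only [hq, ← Finset.sum_sub_distrib, smul_add, hpol]
      have : ∀ h : H, β ((h • x : E) : U) ((h • y : E) : U) = β x y := fun h => hi h x y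
      rw [Finset.sum_congr rfl fun h _ => this h, Finset.sum_const, Finset.card_univ, nsmul_eq_mul,
        hoddH, one_mul]
    refine exists_eta_gauss hM hUE hcop q (fun k x => ?_) (fun x y z => ?_) (fun x hx => ?_)
    · simp only [hq, smul_smul]
      exact Equiv.sum_comp (Equiv.mulRight k) fun h : H => q₀ (h • x)
    · have h1 := hqp (x + y) z
      have h2 := hqp x z
      have h3 := hqp y z
      rw [AddSubgroup.coe_add, hl] at h1
      linear_combination h1 - h2 - h3
    · exact Subtype.ext (hnd x x.2 fun y hy => (hqp x ⟨y, hy⟩).symm.trans (hx ⟨y, hy⟩))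
  · -- odd characteristic
    have h2 : (2 : ZMod p) ≠ 0 := by
      intro h
      have hdvd := (ZMod.natCast_eq_zero_iff 2 p).mp (by exact_mod_cast h)
      have := (Nat.prime_dvd_prime_iff_eq hp.out Nat.prime_two).mp hdvd
      rw [this] at hodd
      exact absurd hodd (by decide)
    have hpol : ∀ x y : E, β ((x + y : E) : U) ((x + y : E) : U) - β x x - β y y = 2 * β x y := by
      intro x y
      rw [AddSubgroup.coe_add, hl, hr, hr, hsym (y : U) y.2 (x : U) x.2]
      ring
    refine exists_eta_gauss hM hUE hcop (fun x : E => β x x) (fun k x => hi k x x)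
      (fun x y z => ?_) (fun x hx => ?_)
    · rw [hpol (x + y) z, hpol x z, hpol y z, AddSubgroup.coe_add, hl]
      ring
    · refine Subtype.ext (hnd x x.2 fun y hy => ?_)
      have := hx ⟨y, hy⟩
      rw [hpol] at this
      exact (mul_eq_zero.mp this).resolve_left h2

include hU hcop hl hr hi in
/-- A square root on a faithful invariant subgroup. -/
theorem exists_goodSub_faithful (hM : Cfsg.IsPModular p M)
    (hnd : ∀ x, (∀ y, β x y = 0) → x = 0) :
    ∃ (W : AddSubgroup U) (f : H → ℂ), GoodSub M W f ∧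
      ∀ h : H, (∃ u : U, h • u ≠ u) → ∃ u ∈ W, h • u ≠ u := by
  classical
  have := isPrime hM
  have := Fintype.ofFinite U
  obtain ⟨W, ⟨f, hf⟩, hmax⟩ := Set.Finite.exists_maximalFor
    (fun W : AddSubgroup U => Nat.card W) {W : AddSubgroup U | ∃ f : H → ℂ, GoodSub M W f}
    (Set.toFinite _) ⟨⊥, 1, goodSub_bot⟩
  refine ⟨W, f, hf, fun h₀ ⟨u₀, hu₀⟩ => ?_⟩
  by_contra hcon
  push Not at hcon
  let K : Subgroup H :=
    { carrier := {k | ∀ u ∈ W, k • u = u}
      one_mem' := fun u _ => one_smul H u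
      mul_mem' := fun {a b} ha hb u hu => by rw [mul_smul, hb u hu, ha u hu]
      inv_mem' := fun {a} ha u hu => inv_smul_eq_iff.mpr (ha u hu).symm }
  have hKn : ∀ (g : H), ∀ k ∈ K, g * k * g⁻¹ ∈ K := by
    intro g k hk u hu
    rw [mul_smul, mul_smul, hk _ (hf.inv _ u hu), smul_inv_smul]
  have hcopK : (Fintype.card K).Coprime p := by
    rw [← Nat.card_eq_fintype_card]
    exact hcop.coprime_dvd_left K.card_subgroup_dvd_card
  have hcancel : ∀ {n : ℕ}, n.Coprime p → ∀ u : U, n • u = 0 → u = 0 := by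
    intro n hn u hu
    have hd : addOrderOf u ∣ 1 := hn.gcd_eq_one ▸ Nat.dvd_gcd
      (addOrderOf_dvd_of_nsmul_eq_zero hu) (addOrderOf_dvd_of_nsmul_eq_zero (hU u))
    exact AddMonoid.addOrderOf_eq_one_iff.mp (Nat.dvd_one.mp hd)
  let N : U →+ U := ∑ k : K, DistribSMul.toAddMonoidHom U (k : H)
  have hN : ∀ u, N u = ∑ k : K, (k : H) • u := fun u => by simp [N]
  let X : AddSubgroup U := N.ker
  have hXC : ∀ x ∈ X, (∀ k : K, (k : H) • x = x) → x = 0 := by
    intro x hx hk
    refine hcancel hcopK x ?_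
    have := AddMonoidHom.mem_ker.mp hx
    rwa [hN, Finset.sum_congr rfl fun k _ => hk k, Finset.sum_const, Finset.card_univ] at this
  have hXW : ∀ x ∈ X, x ∈ W → x = 0 := fun x hx hxW => hXC x hx fun k => k.2 x hxW
  have hXi : ∀ (g : H), ∀ x ∈ X, g • x ∈ X := by
    intro g x hx
    rw [AddMonoidHom.mem_ker, hN] at hx ⊢
    let e : K ≃ K :=
      { toFun := fun k => ⟨g⁻¹ * (k : H) * g, by simpa using hKn g⁻¹ k k.2⟩
        invFun := fun k => ⟨g * (k : H) * g⁻¹, hKn g k k.2⟩
        left_inv := fun k => Subtype.ext (by simp [mul_assoc])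
        right_inv := fun k => Subtype.ext (by simp [mul_assoc]) }
    calc ∑ k : K, (k : H) • g • x = ∑ k : K, g • ((e k : H) • x) := by
          refine Finset.sum_congr rfl fun k _ => ?_
          rw [smul_smul, smul_smul]
          congr 1
          simp [e, mul_assoc]
      _ = 0 := by
          rw [← Finset.smul_sum, Equiv.sum_comp e fun k : K => (k : H) • x, hx, smul_zero]
  -- the form kills pairs (moved, fixed)
  have hperp : ∀ x ∈ X, ∀ y, (∀ k : K, (k : H) • y = y) → β x y = 0 ∧ β y x = 0 := by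
    intro x hx y hy
    rw [AddMonoidHom.mem_ker, hN] at hx
    have hunit : ((Fintype.card K : ℕ) : ZMod p) ≠ 0 := fun h =>
      ((Nat.Prime.coprime_iff_not_dvd hp.out).mp hcopK.symm) ((ZMod.natCast_eq_zero_iff _ p).mp h)
    constructor
    · have h1 := beta_sum_left β hl Finset.univ (fun k : K => (k : H) • x) y
      have e : ∀ k : K, β ((k : H) • x) y = β x y := fun k => by
        conv_lhs => rw [← hy k]
        exact hi _ x y
      rw [hx, beta_zero_left β hl, Finset.sum_congr rfl fun k _ => e k, Finset.sum_const, Finset.card_univ,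
        nsmul_eq_mul] at h1
      exact (mul_eq_zero.mp h1.symm).resolve_left hunit
    · have h1 := beta_sum_right β hr Finset.univ y (fun k : K => (k : H) • x)
      have e : ∀ k : K, β y ((k : H) • x) = β y x := fun k => by
        conv_lhs => rw [← hy k]
        exact hi _ y x
      rw [hx, beta_zero_right β hr, Finset.sum_congr rfl fun k _ => e k, Finset.sum_const, Finset.card_univ,
        nsmul_eq_mul] at h1
      exact (mul_eq_zero.mp h1.symm).resolve_left hunit
  have hsplitK : ∀ z : U, ∃ y, (∀ k : K, (k : H) • y = y) ∧ z - y ∈ X := by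
    intro z
    obtain ⟨m, -, hm⟩ := Nat.exists_mul_mod_eq_one_of_coprime hcopK hp.out.one_lt
    have hfixN : ∀ k : K, (k : H) • N z = N z := fun k => by
      rw [hN, Finset.smul_sum]
      simp only [smul_smul, ← Subgroup.coe_mul]
      exact Equiv.sum_comp (Equiv.mulLeft k) fun j : K => (j : H) • z
    refine ⟨m • N z, fun k => by rw [smul_comm, hfixN], ?_⟩
    rw [AddMonoidHom.mem_ker, map_sub, map_nsmul, hN (N z), Finset.sum_congr rfl fun k _ => hfixN k,
      Finset.sum_const, Finset.card_univ, smul_smul, mul_comm,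
      ← Nat.div_add_mod (Fintype.card K * m) p, hm, add_nsmul, mul_nsmul', hU, one_nsmul,
      zero_add, sub_self]
  have hXne : ∃ x ∈ X, x ≠ 0 := by
    obtain ⟨y, hy, hyX⟩ := hsplitK u₀
    refine ⟨_, hyX, fun h => hu₀ ?_⟩
    rw [sub_eq_zero.mp h]
    exact hy ⟨h₀, hcon⟩
  obtain ⟨E, ⟨hEi, hEX, hEne⟩, hEmin⟩ := Set.Finite.exists_minimalFor (fun E : AddSubgroup U => E)
    {E : AddSubgroup U | (∀ (g : H), ∀ u ∈ E, g • u ∈ E) ∧ E ≤ X ∧ E ≠ ⊥} (Set.toFinite _)
    ⟨X, hXi, le_rfl, fun h => by obtain ⟨x, hx, hx0⟩ := hXne; exact hx0 (by simpa [h] using hx)⟩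
  have hmin : ∀ E' : AddSubgroup U, (∀ (g : H), ∀ u ∈ E', g • u ∈ E') → E' ≤ E → E' = ⊥ ∨ E' = E := by
    intro E' hi' hle
    by_cases h0 : E' = ⊥
    · exact Or.inl h0
    · exact Or.inr (le_antisymm hle (hEmin ⟨hi', hle.trans hEX, h0⟩ hle))
  have hEmove : ∀ x ∈ E, (∀ g : H, g • x = x) → x = 0 := fun x hx hg => hXC x (hEX hx) fun k => hg k
  have contra : ∀ (B : AddSubgroup U) (g : H → ℂ), GoodSub M B g → B ≤ X → B ≠ ⊥ → False := by
    intro B g hB hBX hBne
    have hd : W ⊓ B = ⊥ := eq_bot_iff.mpr fun x hx =>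
      AddSubgroup.mem_bot.mpr (hXW x (hBX hx.2) hx.1)
    have hle : W ≤ W ⊔ B := le_sup_left
    have h1 : Nat.card W ≤ Nat.card ↥(W ⊔ B) := AddSubgroup.card_le_of_le hle
    have h2 : Nat.card ↥(W ⊔ B) ≤ Nat.card W := hmax (j := W ⊔ B) ⟨f * g, hf.sup hB hd⟩ h1
    rw [card_sup hd] at h2
    have h3 : Nat.card B ≤ 1 :=
      Nat.le_of_mul_le_mul_left (h2.trans (mul_one _).ge) Nat.card_pos
    exact hBne (AddSubgroup.eq_bot_of_card_le _ h3)
  by_cases hcase : ∃ x ∈ E, ∃ y ∈ E, β x y ≠ 0
  · obtain ⟨g, hg⟩ := exists_goodSub_simple hU hcop β hl hr hi hM E hEi hmin hcase hEmove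
    exact contra E g hg hEX hEne
  push Not at hcase
  -- the annihilator of `E` in `X` and an invariant complement
  let Y : AddSubgroup U :=
    { carrier := {x | x ∈ X ∧ ∀ e ∈ E, β e x = 0}
      zero_mem' := ⟨zero_mem _, fun e _ => beta_zero_right β hr e⟩
      add_mem' := fun {a b} ha hb => ⟨add_mem ha.1 hb.1, fun e he => by
        rw [hr, ha.2 e he, hb.2 e he, add_zero]⟩
      neg_mem' := fun {a} ha => ⟨neg_mem ha.1, fun e he => by
        have := hr e a (-a)
        rw [add_neg_cancel, beta_zero_right β hr, ha.2 e he, zero_add] at this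
        exact this.symm⟩ }
  have hYi : ∀ (g : H), ∀ x ∈ Y, g • x ∈ Y := fun g x hx => ⟨hXi g x hx.1, fun e he => by
    rw [← hi g⁻¹, inv_smul_smul]; exact hx.2 _ (hEi _ e he)⟩
  obtain ⟨π₀, hπ₀, hπ₁⟩ := @exists_projection p _ U _ (AddCommGroup.zmodModule hU) Y
  let P : U →+ U := ∑ g : H, (DistribSMul.toAddMonoidHom U g).comp
    (π₀.comp (DistribSMul.toAddMonoidHom U g⁻¹))
  have hP : ∀ u, P u = ∑ g : H, g • π₀ (g⁻¹ • u) := fun u => by simp [P]
  have hPi : ∀ (k : H) u, P (k • u) = k • P u := by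
    intro k u
    rw [hP, hP, Finset.smul_sum]
    rw [← Equiv.sum_comp (Equiv.mulLeft k)]
    refine Finset.sum_congr rfl fun g _ => ?_
    simp only [Equiv.coe_mulLeft, mul_inv_rev, mul_smul, inv_smul_smul]
  have hPY : ∀ u, P u ∈ Y := fun u => by
    rw [hP]; exact AddSubgroup.sum_mem _ fun g _ => hYi g _ (hπ₀ _)
  have hPy : ∀ y ∈ Y, P y = Fintype.card H • y := fun y hy => by
    rw [hP, Finset.sum_congr rfl fun g _ => (by rw [hπ₁ _ (hYi _ y hy), smul_inv_smul] :
      g • π₀ (g⁻¹ • y) = y), Finset.sum_const, Finset.card_univ]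
  let F : AddSubgroup U := X ⊓ P.ker
  have hFi : ∀ (g : H), ∀ x ∈ F, g • x ∈ F := fun g x hx =>
    ⟨hXi g x hx.1, AddMonoidHom.mem_ker.mpr (by rw [hPi, AddMonoidHom.mem_ker.mp hx.2, smul_zero])⟩
  have hcopH : (Fintype.card H).Coprime p := by rw [← Nat.card_eq_fintype_card]; exact hcop
  have hFY : ∀ x ∈ F, x ∈ Y → x = 0 := fun x hx hxY => hcancel hcopH x (by
    rw [← hPy x hxY]; exact AddMonoidHom.mem_ker.mp hx.2)
  -- the pairing of `E` with `F`
  have hleft : ∀ e ∈ E, (∀ x ∈ F, β e x = 0) → e = 0 := by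
    intro e he h0
    refine hnd e fun z => ?_
    obtain ⟨y, hy, hyX⟩ := hsplitK z
    obtain ⟨m, -, hm⟩ := Nat.exists_mul_mod_eq_one_of_coprime hcopH hp.out.one_lt
    set y' := m • P (z - y) with hy'
    have hy'Y : y' ∈ Y := AddSubgroup.nsmul_mem _ (hPY _) m
    have hF : z - y - y' ∈ F := ⟨X.sub_mem hyX hy'Y.1, AddMonoidHom.mem_ker.mpr (by
      rw [map_sub, hPy y' hy'Y, hy', smul_smul, ← Nat.div_add_mod (Fintype.card H * m) p, hm,
        add_nsmul, mul_nsmul', hU, one_nsmul, zero_add, sub_self])⟩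
    have e1 : z = y + (y' + (z - y - y')) := by abel
    rw [e1, hr, hr, (hperp e (hEX he) y hy).1, hy'Y.2 e he, h0 _ hF, add_zero, add_zero]
  have hright : ∀ x ∈ F, (∀ e ∈ E, β e x = 0) → x = 0 := fun x hx h0 => hFY x hx ⟨hx.1, h0⟩
  have hEF : E ⊓ F = ⊥ := by
    rcases hmin (E ⊓ F) (fun g u hu => ⟨hEi g u hu.1, hFi g u hu.2⟩) inf_le_left with h | h
    · exact h
    · exfalso
      refine hEne (eq_bot_iff.mpr fun e he => AddSubgroup.mem_bot.mpr (hright e ?_ fun e' he' => hcase e' he' e he))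
      rw [← h] at he
      exact he.2
  let B : AddSubgroup U := E ⊔ F
  have hBi : ∀ (g : H), ∀ u ∈ B, g • u ∈ B := by
    intro g u hu
    obtain ⟨a, ha, b, hb, rfl⟩ := AddSubgroup.mem_sup.mp hu
    rw [smul_add]
    exact AddSubgroup.mem_sup.mpr ⟨_, hEi g a ha, _, hFi g b hb, rfl⟩
  have hdec : ∀ u : B, ∃ x : E × F, (x.1 : U) + x.2 = u := fun u => by
    obtain ⟨a, ha, b, hb, e⟩ := AddSubgroup.mem_sup.mp u.2
    exact ⟨(⟨a, ha⟩, ⟨b, hb⟩), e⟩
  have huniq : ∀ x x' : E × F, (x.1 : U) + x.2 = x'.1 + x'.2 → x = x' := by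
    intro x x' e
    have e' : ((x.1 - x'.1 : E) : U) = ((x'.2 - x.2 : F) : U) := by
      simp only [AddSubgroup.coe_sub]
      rw [sub_eq_sub_iff_add_eq_add]
      exact e.trans (add_comm _ _)
    have h0 : ((x.1 - x'.1 : E) : U) = 0 := by
      rw [← AddSubgroup.mem_bot, ← hEF]
      exact ⟨(x.1 - x'.1).2, e' ▸ (x'.2 - x.2).2⟩
    have h0' := e'.symm.trans h0
    simp only [AddSubgroup.coe_sub, sub_eq_zero] at h0 h0'
    exact Prod.ext (Subtype.ext h0) (Subtype.ext h0'.symm)
  choose d hd using hdec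
  have hdadd : ∀ u w : B, d (u + w) = d u + d w := fun u w => huniq _ _ (by
    rw [hd]; simp only [Prod.fst_add, Prod.snd_add, AddSubgroup.coe_add]
    rw [← hd u, ← hd w]; abel)
  have := Fintype.ofFinite B
  letI := subAction B hBi
  have hdsmul : ∀ (g : H) (u : B),
      ((d (g • u)).1 : U) = g • ((d u).1 : U) ∧ ((d (g • u)).2 : U) = g • ((d u).2 : U) := by
    intro g u
    have := huniq (d (g • u)) (⟨_, hEi g _ (d u).1.2⟩, ⟨_, hFi g _ (d u).2.2⟩) (by
      rw [hd]
      show g • (u : U) = g • ((d u).1 : U) + g • ((d u).2 : U)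
      rw [← smul_add, hd])
    exact ⟨congrArg (fun x : E × F => (x.1 : U)) this, congrArg (fun x : E × F => (x.2 : U)) this⟩
  have hUB : ∀ u : B, p • u = 0 := fun u => Subtype.ext (by simpa using hU (u : U))
  obtain ⟨g, hg⟩ := exists_goodSub_of_eta (M := M) B hBi
    (exists_eta_gauss hM hUB hcop (fun u : B => β (d u).1 (d u).2)
      (fun g u => by simp only [(hdsmul g u).1, (hdsmul g u).2, hi])
      (fun x y z => by
        simp only [hdadd, Prod.fst_add, Prod.snd_add, AddSubgroup.coe_add, hl, hr]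
        ring)
      (fun x hx => by
        have hpol : ∀ y : B, β ((d x).1 : U) ((d y).2 : U) + β ((d y).1 : U) ((d x).2 : U) = 0 := by
          intro y
          have := hx y
          simp only [hdadd, Prod.fst_add, Prod.snd_add, AddSubgroup.coe_add, hl, hr] at this
          linear_combination this
        have h1 : ((d x).1 : U) = 0 := hleft _ (d x).1.2 fun w hw => by
          have := hpol ⟨w, (le_sup_right : F ≤ B) hw⟩
          have e : d ⟨w, (le_sup_right : F ≤ B) hw⟩ = (0, ⟨w, hw⟩) := huniq _ _ (by rw [hd]; simp)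
          rw [e] at this
          simpa [beta_zero_left β hl] using this
        have h2 : ((d x).2 : U) = 0 := hright _ (d x).2.2 fun w hw => by
          have := hpol ⟨w, (le_sup_left : E ≤ B) hw⟩
          have e : d ⟨w, (le_sup_left : E ≤ B) hw⟩ = (⟨w, hw⟩, 0) := huniq _ _ (by rw [hd]; simp)
          rw [e] at this
          simpa [beta_zero_right β hr] using this
        exact Subtype.ext (by rw [← hd x, h1, h2, add_zero]; rfl)))
  exact contra B g hg (sup_le hEX fun x hx => hx.1)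
    (fun h => hEne (eq_bot_iff.mpr ((le_sup_left : E ≤ B).trans h.le)))

end Form

end Cfsg.Agent.Blocks88.RealVector
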