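import Cfsg.Agent.Blocks88.RealVector.IntVirt
import Cfsg.Agent.Lib.BlocksCore.Local
import Mathlib.Analysis.SpecialFunctions.Complex.CircleAddChar
import Mathlib.Analysis.Fourier.FiniteAbelian.Orthogonality

/-!
# Square roots of `|U : C_U(h)|` from invariant quadratic forms
-/

set_option autoImplicit false

open scoped ComplexConjugate
open Cfsg.Agent.BlocksCore

namespace Cfsg.Agent.Blocks88.RealVector

universe u v

variable {p : ℕ} [hp : Fact p.Prime]

/-- The standard character of `ℤ/p`. -/
noncomputable abbrev ψ (p : ℕ) [Fact p.Prime] : AddChar (ZMod p) ℂ := ZMod.stdAddChar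

theorem ψ_pow (a : ZMod p) : ψ p a ^ p = 1 := by
  rw [← AddChar.map_nsmul_eq_pow, nsmul_eq_mul, ZMod.natCast_self, zero_mul, AddChar.map_zero_eq_one]

theorem isIntegral_ψ (a : ZMod p) : IsIntegral ℤ (ψ p a) :=
  IsIntegral.of_pow hp.out.pos (by rw [ψ_pow]; exact isIntegral_one)

theorem conj_ψ (a : ZMod p) : conj (ψ p a) = ψ p (-a) := (AddChar.map_neg_eq_conj _ _).symm

theorem map_conj_ψ (σ : ℂ →+* ℂ) (a : ZMod p) : σ (conj (ψ p a)) = conj (σ (ψ p a)) := by
  have h : σ (ψ p a) ^ p = 1 := by rw [← map_pow, ψ_pow, map_one]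
  rw [← Complex.inv_eq_conj (Complex.norm_eq_one_of_pow_eq_one h hp.out.ne_zero),
    ← Complex.inv_eq_conj (Complex.norm_eq_one_of_pow_eq_one (ψ_pow a) hp.out.ne_zero), map_inv₀]

theorem ψ_ne_one {a : ZMod p} (ha : a ≠ 0) : ψ p a ≠ 1 := fun h =>
  ha (ZMod.injective_stdAddChar (h.trans (AddChar.map_zero_eq_one _).symm))

theorem map_natCast_conj (σ : ℂ →+* ℂ) (n : ℕ) : σ (conj (n : ℂ)) = conj (σ (n : ℂ)) := by
  simp

variable {H : Type u} [Group H] {U : Type v} [AddCommGroup U] [DistribMulAction H U]

/-- The number of fixed points. -/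
noncomputable def fixCard (U : Type v) [AddCommGroup U] [DistribMulAction H U] (h : H) : ℕ :=
  Nat.card {u : U // h • u = u}

/-- The fixed points of an element. -/
def fixSub (U : Type v) [AddCommGroup U] [DistribMulAction H U] (h : H) : AddSubgroup U :=
  (DistribSMul.toAddMonoidHom U h - AddMonoidHom.id U).ker

/-- The commutator of an element with the module. -/
def movSub (U : Type v) [AddCommGroup U] [DistribMulAction H U] (h : H) : AddSubgroup U :=
  (DistribSMul.toAddMonoidHom U h - AddMonoidHom.id U).range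

theorem mem_fixSub {h : H} {u : U} : u ∈ fixSub U h ↔ h • u = u := by
  simp [fixSub, sub_eq_zero]

theorem mem_movSub {h : H} {u : U} : u ∈ movSub U h ↔ ∃ y : U, h • y - y = u := by
  simp [movSub]

theorem card_fixSub (h : H) : Nat.card (fixSub U h) = fixCard U h :=
  Nat.card_congr (Equiv.subtypeEquivRight fun _ => mem_fixSub)

section Decomposition

variable [Finite H] (hU : ∀ u : U, p • u = 0) (hcop : (Nat.card H).Coprime p)

include hU hcop in
theorem eq_zero_of_fix_mov {h : H} {x : U} (h1 : x ∈ fixSub U h) (h2 : x ∈ movSub U h) : x = 0 := by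
  obtain ⟨y, rfl⟩ := mem_movSub.mp h2
  have h1' := mem_fixSub.mp h1
  set x := h • y - y with hx
  have hy : ∀ j : ℕ, h ^ j • y = y + j • x := by
    intro j
    induction j with
    | zero => simp
    | succ j ih =>
      rw [pow_succ', mul_smul, ih, smul_add, smul_comm, h1', succ_nsmul, hx]
      abel
  have h3 := hy (orderOf h)
  rw [pow_orderOf_eq_one, one_smul, left_eq_add] at h3
  have hd : addOrderOf x ∣ 1 := by
    rw [← (hcop.coprime_dvd_left (orderOf_dvd_natCard h)).gcd_eq_one]
    exact Nat.dvd_gcd (addOrderOf_dvd_of_nsmul_eq_zero h3) (addOrderOf_dvd_of_nsmul_eq_zero (hU x))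
  exact AddMonoid.addOrderOf_eq_one_iff.mp (Nat.dvd_one.mp hd)

include hU hcop in
theorem bijective_split [Finite U] (h : H) :
    Function.Bijective fun x : fixSub U h × movSub U h => (x.1 : U) + x.2 := by
  have hinj : Function.Injective fun x : fixSub U h × movSub U h => (x.1 : U) + x.2 := by
    intro x y e
    have e' : ((x.1 - y.1 : fixSub U h) : U) = ((y.2 - x.2 : movSub U h) : U) := by
      simp only [AddSubgroup.coe_sub]
      rw [sub_eq_sub_iff_add_eq_add]
      exact (e : (x.1 : U) + x.2 = (y.1 : U) + y.2).trans (add_comm _ _)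
    have h0 := eq_zero_of_fix_mov hU hcop (x.1 - y.1).2 (e' ▸ (y.2 - x.2).2)
    have h0' := e'.symm.trans h0
    simp only [AddSubgroup.coe_sub, sub_eq_zero] at h0 h0'
    exact Prod.ext (Subtype.ext h0) (Subtype.ext h0'.symm)
  refine hinj.bijective_of_nat_card_le (le_of_eq ?_)
  rw [Nat.card_prod, fixSub, movSub, ← AddSubgroup.index_ker, AddSubgroup.card_mul_index]

end Decomposition

open scoped Classical in
theorem intVirt_fixCard [Fintype H] [Finite U] : IntVirt fun h : H => (fixCard U h : ℂ) := by
  have := Fintype.ofFinite U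
  have := IntVirt.fixedSum (H := H) (fun _ : U => (1 : ℂ)) (fun _ _ => rfl) fun _ => isIntegral_one
  convert this using 2 with h
  simp [fixCard, Nat.card_eq_fintype_card, Fintype.card_subtype]

theorem coprime_fixCard [Finite U] (hU : ∀ u : U, p • u = 0) (hcop : (Nat.card H).Coprime p)
    (h : H) : (fixCard U h).Coprime (Nat.card H) := by
  rw [← card_fixSub]
  refine Nat.coprime_of_dvd' fun r hr hrU hrH => ?_
  have := Fact.mk hr
  obtain ⟨x, hx⟩ := exists_prime_addOrderOf_dvd_card' r hrU
  have : r ∣ p := hx ▸ addOrderOf_dvd_of_nsmul_eq_zero (Subtype.ext (by simpa using hU x))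
  rw [(Nat.prime_dvd_prime_iff_eq hr hp.out).mp this] at hrH ⊢
  rw [← hcop.gcd_eq_one]
  exact Nat.dvd_gcd hrH dvd_rfl

/-- A square root of `|U : C_U(h)|`, as a class function with integral coefficients. -/
structure Eta (M : Ideal Cfsg.AlgInt) (U : Type v) [AddCommGroup U] [DistribMulAction H U]
    [Fintype H] (f : H → ℂ) : Prop where
  virt : IntVirt f
  cm : ∀ (σ : ℂ →+* ℂ) (h : H), σ (conj (f h)) = conj (σ (f h))
  one : f 1 = 1
  norm : ∀ h, f h * conj (f h) * (fixCard U h : ℂ) = (Nat.card U : ℂ)
  small : ∀ h, fixCard U h ≠ Nat.card U → MemLocalIdeal M (f h)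

/-- The absolute value of a Gauss sum. -/
theorem gauss_sq {S : Type v} [AddCommGroup S] [Fintype S] (q : S → ZMod p)
    (hB : ∀ x y z, q (x + y + z) - q (x + y) - q z =
      (q (x + z) - q x - q z) + (q (y + z) - q y - q z))
    (hnd : ∀ x, (∀ y, q (x + y) - q x - q y = 0) → x = 0) :
    (∑ u, ψ p (q u)) * conj (∑ u, ψ p (q u)) = (Nat.card S : ℂ) := by
  classical
  have hq0 : q 0 = 0 := by
    have := hB 0 0 0
    simp only [add_zero] at this
    linear_combination this
  let B : S → S → ZMod p := fun x y => q (x + y) - q x - q y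
  have hswap : (∑ u, ψ p (q u)) * conj (∑ u, ψ p (q u)) =
      ∑ d, ψ p (q d) * ∑ u, ψ p (B u d) := by
    rw [map_sum, Finset.mul_sum]
    simp only [Finset.sum_mul, Finset.mul_sum]
    conv_rhs => rw [Finset.sum_comm]
    refine Finset.sum_congr rfl fun u _ => ?_
    refine (Equiv.sum_comp (Equiv.addLeft u) fun t => ψ p (q t) * conj (ψ p (q u))).symm.trans ?_
    refine Finset.sum_congr rfl fun d _ => ?_
    rw [Equiv.coe_addLeft, conj_ψ, ← AddChar.map_add_eq_mul, ← AddChar.map_add_eq_mul]
    congr 1
    simp only [B]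
    ring
  rw [hswap, Finset.sum_eq_single 0]
  · simp [B, hq0, Nat.card_eq_fintype_card]
  · intro d _ hd
    let χ : AddChar S ℂ :=
      { toFun := fun u => ψ p (B u d)
        map_zero_eq_one' := by simp [B, hq0]
        map_add_eq_mul' := fun x y => by
          rw [← AddChar.map_add_eq_mul]
          congr 1
          exact hB x y d }
    have hχ : χ ≠ 1 := by
      intro h
      refine hd (hnd d fun y => ?_)
      by_contra hne
      refine ψ_ne_one hne ?_
      have := congrArg (fun c : AddChar S ℂ => c y) h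
      simp only [AddChar.one_apply] at this
      rw [show q (d + y) - q d - q y = B y d by simp only [B]; rw [add_comm d y]; ring]
      exact this
    rw [show ∑ u, ψ p (B u d) = ∑ u, χ u from rfl, AddChar.sum_eq_zero_of_ne_one hχ, mul_zero]
  · simp

open scoped Classical in
theorem sum_subgroup [Fintype U] (S : AddSubgroup U) (f : U → ℂ) :
    ∑ u : U, (if u ∈ S then f u else 0) = ∑ u : S, f u := by
  rw [← Finset.sum_filter]
  exact Finset.sum_subtype _ (by simp) f

open scoped Classical in
/-- The Gauss sum construction. -/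
theorem exists_eta_gauss [Fintype H] [Fintype U] {M : Ideal Cfsg.AlgInt}
    (hM : Cfsg.IsPModular p M) (hU : ∀ u : U, p • u = 0) (hcop : (Nat.card H).Coprime p)
    (q : U → ZMod p) (hinv : ∀ (h : H) u, q (h • u) = q u)
    (hB : ∀ x y z, q (x + y + z) - q (x + y) - q z =
      (q (x + z) - q x - q z) + (q (y + z) - q y - q z))
    (hnd : ∀ x, (∀ y, q (x + y) - q x - q y = 0) → x = 0) :
    ∃ f : H → ℂ, Eta M U f := by
  have := isPrime hM
  let B : U → U → ZMod p := fun x y => q (x + y) - q x - q y
  have hBl : ∀ x y z, B (x + y) z = B x z + B y z := hB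
  have hBc : ∀ x y, B x y = B y x := fun x y => by simp only [B]; rw [add_comm x y]; ring
  have hBr : ∀ x y z, B x (y + z) = B x y + B x z := fun x y z => by
    rw [hBc, hBl, hBc y, hBc z]
  have hBi : ∀ (h : H) x y, B (h • x) (h • y) = B x y := fun h x y => by
    simp only [B, ← smul_add, hinv]
  have hq0 : q 0 = 0 := by
    have := hB 0 0 0
    simp only [add_zero] at this
    linear_combination this
  have horth : ∀ (h : H) (c w : U), c ∈ fixSub U h → w ∈ movSub U h → B c w = 0 := by
    intro h c w hc hw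
    obtain ⟨y, rfl⟩ := mem_movSub.mp hw
    have e : B c (h • y) = B c y := by
      conv_lhs => rw [← mem_fixSub.mp hc]
      exact hBi h c y
    have := hBr c (h • y - y) y
    rw [sub_add_cancel, e, right_eq_add] at this
    exact this
  set η : H → ℂ := fun h => ∑ u : U, if u ∈ movSub U h then ψ p (q u) else 0 with hη
  set θ : H → ℂ := fun h => ∑ u : U, if h • u = u then ψ p (q u) else 0 with hθ
  set g : ℂ := ∑ u : U, ψ p (q u) with hg
  have hsplit := fun h : H => bijective_split hU hcop (U := U) h
  have hndsub : ∀ h : H,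
      (∀ x : fixSub U h, (∀ y : fixSub U h, B x y = 0) → x = 0) ∧
      (∀ x : movSub U h, (∀ y : movSub U h, B x y = 0) → x = 0) := by
    intro h
    constructor
    · intro x hx
      refine Subtype.ext (hnd _ fun z => ?_)
      obtain ⟨⟨c, w⟩, rfl⟩ := (hsplit h).2 z
      show B x ((c : U) + w) = 0
      rw [hBr, hx c, horth h x w x.2 w.2, add_zero]
    · intro x hx
      refine Subtype.ext (hnd _ fun z => ?_)
      obtain ⟨⟨c, w⟩, rfl⟩ := (hsplit h).2 z
      show B x ((c : U) + w) = 0
      rw [hBr, hx w, hBc, horth h c x c.2 x.2, add_zero]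
  have hθ' : ∀ h : H, θ h = ∑ u : fixSub U h, ψ p (q u) := fun h => by
    rw [← sum_subgroup (fixSub U h) fun u => ψ p (q u), hθ]
    refine Finset.sum_congr rfl fun u _ => ?_
    by_cases hu : h • u = u
    · rw [if_pos hu, if_pos (mem_fixSub.mpr hu)]
    · rw [if_neg hu, if_neg (mt mem_fixSub.mp hu)]
  have hη' : ∀ h : H, η h = ∑ u : movSub U h, ψ p (q u) := fun h => sum_subgroup _ _
  have hθsq : ∀ h : H, θ h * conj (θ h) = (fixCard U h : ℂ) := fun h => by
    rw [hθ', ← card_fixSub, gauss_sq (fun u : fixSub U h => q u)]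
    · exact fun x y z => hB x y z
    · exact (hndsub h).1
  have hηsq : ∀ h : H, η h * conj (η h) = (Nat.card (movSub U h) : ℂ) := fun h => by
    rw [hη', gauss_sq (fun u : movSub U h => q u)]
    · exact fun x y z => hB x y z
    · exact (hndsub h).2
  have hprod : ∀ h : H, θ h * η h = g := fun h => by
    rw [hθ', hη', hg, ← (hsplit h).sum_comp fun u => ψ p (q u), Fintype.sum_prod_type,
      Finset.sum_mul_sum]
    refine Finset.sum_congr rfl fun c _ => Finset.sum_congr rfl fun w _ => ?_
    rw [← AddChar.map_add_eq_mul]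
    congr 1
    have := horth h c w c.2 w.2
    simp only [B] at this
    linear_combination -this
  have hcard : ∀ h : H, fixCard U h * Nat.card (movSub U h) = Nat.card U := fun h => by
    rw [← card_fixSub, ← Nat.card_prod, Nat.card_congr (Equiv.ofBijective _ (hsplit h))]
  have hcls : Cfsg.IsClassFunction H η := by
    intro h k
    simp only [hη]
    rw [← Equiv.sum_comp (MulAction.toPerm k)]
    refine Finset.sum_congr rfl fun u _ => ?_
    rw [MulAction.toPerm_apply, hinv]
    refine if_congr ?_ rfl rfl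
    rw [mem_movSub, mem_movSub]
    constructor
    · rintro ⟨y, hy⟩
      refine ⟨k⁻¹ • y, smul_left_cancel k ?_⟩
      rw [smul_sub, smul_smul, smul_smul, smul_smul, mul_inv_cancel, one_smul, ← hy,
        mul_assoc]
    · rintro ⟨y, rfl⟩
      refine ⟨k • y, ?_⟩
      rw [smul_smul, inv_mul_cancel_right, smul_sub, smul_smul]
  have hint : ∀ h, IsIntegral ℤ (η h) := fun h => by
    rw [hη']
    exact IsIntegral.sum _ fun u _ => isIntegral_ψ _
  have hθv : IntVirt θ :=
    IntVirt.fixedSum (fun u : U => ψ p (q u)) (fun h u => by rw [hinv]) fun u => isIntegral_ψ _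
  have hπ := intVirt_fixCard (H := H) (U := U)
  have hcopC := coprime_fixCard (U := U) hU hcop
  refine ⟨η, IntVirt.cancel hπ hcopC hcls hint ?_, fun σ h => ?_, ?_, fun h => ?_, fun h hne => ?_⟩
  · have e : (fun h => (fixCard U h : ℂ) * η h) = g • fun h => conj (θ h) := by
      funext h
      rw [Pi.smul_apply, smul_eq_mul, ← hθsq, ← hprod h]
      ring
    rw [e]
    exact hθv.star.smul (IsIntegral.sum _ fun u _ => isIntegral_ψ _)
  · rw [hη']
    simp only [map_sum, map_conj_ψ]
  · rw [hη']
    have : ∀ u : movSub U (1 : H), (u : U) = 0 := fun u => by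
      obtain ⟨y, hy⟩ := mem_movSub.mp u.2
      rw [← hy, one_smul, sub_self]
    have hu : Unique (movSub U (1 : H)) :=
      { default := 0, uniq := fun u => Subtype.ext (this u) }
    rw [Fintype.sum_unique, this, hq0, AddChar.map_zero_eq_one]
  · rw [hηsq, mul_comm]
    exact_mod_cast hcard h
  · have hne' : Nat.card (movSub U h) ≠ 1 := fun e => hne (by rw [← hcard h, e, mul_one])
    have hdvd : p ∣ Nat.card (movSub U h) := by
      obtain ⟨r, hr, hrd⟩ := Nat.exists_prime_and_dvd hne'
      have := Fact.mk hr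
      obtain ⟨x, hx⟩ := exists_prime_addOrderOf_dvd_card' r hrd
      have : r ∣ p := hx ▸ addOrderOf_dvd_of_nsmul_eq_zero (Subtype.ext (by simpa using hU x))
      rwa [(Nat.prime_dvd_prime_iff_eq hr hp.out).mp this] at hrd
    have h1 : MemLocalIdeal M (η h - (Nat.card (movSub U h) : ℂ)) := by
      rw [hη', Nat.card_eq_fintype_card, ← Finset.card_univ, ← nsmul_one, ← Finset.sum_const,
        ← Finset.sum_sub_distrib]
      exact memLocalIdeal_sum fun u _ => memLocalIdeal_sub_one_of_pow hM (k := 1)
        (by rw [pow_one]; exact ψ_pow _)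
    have h2 : MemLocalIdeal M (Nat.card (movSub U h) : ℂ) :=
      (memLocalIdeal_natCast_iff hM _).mpr hdvd
    simpa using memLocalIdeal_add h1 h2

end Cfsg.Agent.Blocks88.RealVector
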