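import Cfsg.Agent.Lib.CharCore.Complete
import Mathlib.FieldTheory.Finite.Basic

/-!
# Class functions with integral coefficients
-/

set_option autoImplicit false

open scoped ComplexConjugate
open Cfsg.Agent.CharCore

namespace Cfsg.Agent.Blocks88.RealVector

universe u v

variable {H : Type u} [Group H] [Fintype H]

/-- A class function all of whose inner products with irreducible characters are algebraic
integers. -/
structure IntVirt (f : H → ℂ) : Prop where
  cls : Cfsg.IsClassFunction H f
  coeff : ∀ χ : Cfsg.IrrCharacter H, IsIntegral ℤ (Cfsg.classInner f (χ : H → ℂ))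

theorem isIntegral_conj {z : ℂ} (h : IsIntegral ℤ z) : IsIntegral ℤ (conj z) :=
  h.map (starRingEnd ℂ).toIntAlgHom

theorem isIntegral_nat (n : ℕ) : IsIntegral ℤ (n : ℂ) := by
  simpa using isIntegral_algebraMap (R := ℤ) (A := ℂ) (x := (n : ℤ))

theorem IntVirt.of_isCharacter {f : H → ℂ} (hf : Cfsg.IsCharacter H f) : IntVirt f := by
  refine ⟨IsCharacter.isClassFunction hf, fun χ => ?_⟩
  obtain ⟨k, hk⟩ := IsCharacter.exists_classInner_irr_eq_natCast hf χ
  rw [hk]
  exact isIntegral_nat k

theorem IntVirt.one : IntVirt (1 : H → ℂ) := .of_isCharacter isCharacter_one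

theorem IntVirt.sum {ι : Type v} (s : Finset ι) (f : ι → H → ℂ) (h : ∀ i ∈ s, IntVirt (f i)) :
    IntVirt (∑ i ∈ s, f i) := by
  refine ⟨fun g k => ?_, fun χ => ?_⟩
  · simp only [Finset.sum_apply]
    exact Finset.sum_congr rfl fun i hi => (h i hi).cls g k
  · rw [classInner_sum_left]
    exact IsIntegral.sum _ fun i hi => (h i hi).coeff χ

theorem IntVirt.smul {f : H → ℂ} (h : IntVirt f) {c : ℂ} (hc : IsIntegral ℤ c) :
    IntVirt (c • f) := by
  refine ⟨fun g k => ?_, fun χ => ?_⟩
  · simp only [Pi.smul_apply, h.cls g k]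
  · rw [classInner_smul_left]
    exact hc.mul (h.coeff χ)

theorem IntVirt.sub {f g : H → ℂ} (hf : IntVirt f) (hg : IntVirt g) : IntVirt (f - g) := by
  refine ⟨fun x k => ?_, fun χ => ?_⟩
  · simp only [Pi.sub_apply, hf.cls x k, hg.cls x k]
  · rw [classInner_sub_left]
    exact (hf.coeff χ).sub (hg.coeff χ)

theorem IntVirt.eq_sum {f : H → ℂ} (h : IntVirt f) :
    f = ∑ χ : Cfsg.IrrCharacter H, Cfsg.classInner f (χ : H → ℂ) • (χ : H → ℂ) :=
  eq_sum_classInner h.cls

theorem IntVirt.isIntegral {f : H → ℂ} (h : IntVirt f) (x : H) : IsIntegral ℤ (f x) := by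
  rw [h.eq_sum, Finset.sum_apply]
  refine IsIntegral.sum _ fun χ _ => ?_
  rw [Pi.smul_apply, smul_eq_mul]
  exact (h.coeff χ).mul (IsCharacter.isIntegral (irr_isCharacter χ) x)

theorem IntVirt.mul {f g : H → ℂ} (hf : IntVirt f) (hg : IntVirt g) : IntVirt (f * g) := by
  rw [hf.eq_sum, hg.eq_sum, Finset.sum_mul]
  refine IntVirt.sum _ _ fun χ _ => ?_
  rw [Finset.mul_sum]
  refine IntVirt.sum _ _ fun ψ _ => ?_
  rw [smul_mul_smul_comm]
  exact (IntVirt.of_isCharacter (isCharacter_mul (irr_isCharacter χ) (irr_isCharacter ψ))).smul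
    ((hf.coeff χ).mul (hg.coeff ψ))

theorem IntVirt.pow {f : H → ℂ} (hf : IntVirt f) : ∀ n : ℕ, IntVirt (f ^ n)
  | 0 => by rw [pow_zero]; exact IntVirt.one
  | n + 1 => by rw [pow_succ]; exact (hf.pow n).mul hf

theorem IntVirt.star {f : H → ℂ} (hf : IntVirt f) : IntVirt (fun x => conj (f x)) := by
  refine ⟨fun g k => congrArg _ (hf.cls g k), fun χ => ?_⟩
  have h := isIntegral_conj (hf.coeff ⟨_, isIrrCharacter_star χ.2⟩)
  convert h using 1
  simp [classInner_def, map_sum]

theorem IntVirt.comp {D : Type v} [Group D] [Fintype D] {f : H → ℂ} (hf : IntVirt f)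
    (π : D →* H) : IntVirt (f ∘ π) := by
  have h : f ∘ π = ∑ χ : Cfsg.IrrCharacter H,
      Cfsg.classInner f (χ : H → ℂ) • ((χ : H → ℂ) ∘ π) := by
    funext x
    conv_lhs => rw [hf.eq_sum]
    simp [Finset.sum_apply]
  rw [h]
  exact IntVirt.sum _ _ fun χ _ =>
    (IntVirt.of_isCharacter (isCharacter_comp (irr_isCharacter χ) π)).smul (hf.coeff χ)

/-- The group order times an integral valued class function. -/
theorem IntVirt.card_smul {f : H → ℂ} (hc : Cfsg.IsClassFunction H f)
    (hi : ∀ x, IsIntegral ℤ (f x)) : IntVirt ((Nat.card H : ℂ) • f) := by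
  refine ⟨fun g k => by simp only [Pi.smul_apply, hc g k], fun χ => ?_⟩
  rw [classInner_smul_left, classInner_def, ← mul_assoc,
    mul_inv_cancel₀ (Nat.cast_ne_zero.mpr Nat.card_pos.ne'), one_mul]
  exact IsIntegral.sum _ fun x _ => (hi x).mul (isIntegral_conj (IsCharacter.isIntegral (irr_isCharacter χ) x))

/-- A factor with values invertible modulo the group order cancels. -/
theorem IntVirt.cancel {f : H → ℂ} {π : H → ℕ} (hπ : IntVirt fun x => (π x : ℂ))
    (hcop : ∀ x, (π x).Coprime (Nat.card H)) (hc : Cfsg.IsClassFunction H f)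
    (hi : ∀ x, IsIntegral ℤ (f x)) (h : IntVirt fun x => (π x : ℂ) * f x) : IntVirt f := by
  set M := Nat.card H with hM
  obtain ⟨k, hk⟩ : ∃ k, Nat.totient M = k + 1 :=
    ⟨_, (Nat.succ_pred_eq_of_pos (Nat.totient_pos.mpr Nat.card_pos)).symm⟩
  have hdiv : ∀ x, (M : ℤ) ∣ ((π x : ℤ) ^ (k + 1) - 1) := by
    intro x
    have := Nat.ModEq.pow_totient (hcop x)
    rw [hk] at this
    have h2 := Nat.modEq_iff_dvd.mp this.symm
    simpa using h2
  choose a ha using hdiv
  have e : f = ((fun x => (π x : ℂ)) ^ k * fun x => (π x : ℂ) * f x) -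
      (M : ℂ) • fun x => (a x : ℂ) * f x := by
    funext x
    have h1 : ((π x : ℂ)) ^ (k + 1) - 1 = (M : ℂ) * (a x : ℂ) := by exact_mod_cast ha x
    simp only [Pi.sub_apply, Pi.mul_apply, Pi.pow_apply, Pi.smul_apply, smul_eq_mul]
    linear_combination (f x) * (-h1)
  rw [e]
  refine ((hπ.pow k).mul h).sub (IntVirt.card_smul (fun g x => ?_) fun x => ?_)
  · have h1 : (π (x * g * x⁻¹) : ℂ) = π g := hπ.cls g x
    have h1' : π (x * g * x⁻¹) = π g := by exact_mod_cast h1
    have h2 : a (x * g * x⁻¹) = a g := by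
      have e1 := ha (x * g * x⁻¹)
      rw [h1', ha g] at e1
      exact (mul_left_cancel₀ (by exact_mod_cast Nat.card_pos.ne') e1).symm
    simp only [h2, hc g x]
  · exact (isIntegral_algebraMap (R := ℤ) (A := ℂ) (x := a x)).mul (hi x)

open scoped Classical in
/-- Weighted fixed point sums. -/
theorem IntVirt.fixedSum {U : Type v} [Fintype U] [MulAction H U] (w : U → ℂ)
    (hinv : ∀ (h : H) (u : U), w (h • u) = w u) (hw : ∀ u, IsIntegral ℤ (w u)) :
    IntVirt fun h : H => ∑ u : U, if h • u = u then w u else 0 := by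
  refine ⟨fun g k => ?_, fun χ => ?_⟩
  · rw [← Equiv.sum_comp (MulAction.toPerm k)]
    refine Finset.sum_congr rfl fun u _ => ?_
    simp only [MulAction.toPerm_apply, ← mul_smul, inv_mul_cancel_right, hinv]
    rw [mul_smul]
    simp only [smul_left_cancel_iff]
  · have hswap : Cfsg.classInner (fun h : H => ∑ u : U, if h • u = u then w u else 0) (χ : H → ℂ) =
        (Nat.card H : ℂ)⁻¹ * ∑ u : U, w u *
          ∑ h : MulAction.stabilizer H u, conj ((χ : H → ℂ) (h : H)) := by
      rw [classInner_def]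
      simp only [Finset.sum_mul, ite_mul, zero_mul]
      rw [Finset.sum_comm]
      congr 1
      refine Finset.sum_congr rfl fun u _ => ?_
      rw [← Finset.sum_filter, Finset.mul_sum]
      exact Finset.sum_subtype _ (fun h => by simp [MulAction.mem_stabilizer_iff])
        (fun h => w u * conj ((χ : H → ℂ) h))
    have hm : ∀ u : U, ∃ m : ℕ,
        ∑ h : MulAction.stabilizer H u, conj ((χ : H → ℂ) (h : H)) =
          (Nat.card (MulAction.stabilizer H u) : ℂ) * m := by
      intro u
      obtain ⟨m, hm⟩ := IsCharacter.exists_classInner_eq_natCast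
        (isCharacter_one (G := MulAction.stabilizer H u))
        (isCharacter_restrict (irr_isCharacter χ) (MulAction.stabilizer H u))
      refine ⟨m, ?_⟩
      rw [← hm, classInner_def, ← mul_assoc,
        mul_inv_cancel₀ (Nat.cast_ne_zero.mpr Nat.card_pos.ne'), one_mul]
      simp
    choose m hm using hm
    set F : U → ℂ := fun u => w u *
      ∑ h : MulAction.stabilizer H u, conj ((χ : H → ℂ) (h : H)) with hF
    have hinvF : ∀ (k : H) (u : U), F (k • u) = F u := by
      intro k u
      simp only [hF, hinv]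
      congr 1
      refine Fintype.sum_equiv
        ((MulAut.conj k⁻¹).toEquiv.subtypeEquiv fun h => ?_) _ _ fun h => ?_
      · simp [MulAction.mem_stabilizer_iff, mul_smul, inv_smul_eq_iff]
      · show conj ((χ : H → ℂ) (h : H)) = conj ((χ : H → ℂ) (k⁻¹ * (h : H) * k⁻¹⁻¹))
        rw [irr_isClassFunction χ (h : H) k⁻¹]
    rw [hswap]
    show IsIntegral ℤ ((Nat.card H : ℂ)⁻¹ * ∑ u : U, F u)
    rw [← Finset.sum_fiberwise Finset.univ (Quotient.mk (MulAction.orbitRel H U)), Finset.mul_sum]
    refine IsIntegral.sum _ fun o _ => ?_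
    induction o using Quotient.inductionOn with
    | h u₀ =>
      have hfib : ∀ u ∈ Finset.univ.filter
          (fun u => Quotient.mk (MulAction.orbitRel H U) u = Quotient.mk _ u₀), F u = F u₀ := by
        intro u hu
        obtain ⟨k, hk⟩ := MulAction.orbitRel_apply.mp (Quotient.exact (Finset.mem_filter.mp hu).2)
        rw [← hk]
        exact hinvF k u₀
      have hcard : (Finset.univ.filter
          (fun u => Quotient.mk (MulAction.orbitRel H U) u = Quotient.mk _ u₀)).card *
            Nat.card (MulAction.stabilizer H u₀) = Nat.card H := by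
        have hc : (Finset.univ.filter
            (fun u => Quotient.mk (MulAction.orbitRel H U) u = Quotient.mk _ u₀)).card =
              Nat.card (MulAction.orbit H u₀) := by
          rw [← Fintype.card_subtype, ← Nat.card_eq_fintype_card]
          exact Nat.card_congr (Equiv.subtypeEquivRight fun u => by
            simp [Quotient.eq, MulAction.orbitRel_apply])
        rw [hc, Nat.card_coe_set_eq, ← MulAction.index_stabilizer, mul_comm, Subgroup.card_mul_index]
      rw [Finset.sum_congr rfl hfib, Finset.sum_const, nsmul_eq_mul]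
      simp only [hF, hm u₀]
      rw [← mul_assoc, ← mul_assoc]
      have hc' : ((Finset.univ.filter
          (fun u => Quotient.mk (MulAction.orbitRel H U) u = Quotient.mk _ u₀)).card : ℂ) *
            (Nat.card (MulAction.stabilizer H u₀) : ℂ) = (Nat.card H : ℂ) := by exact_mod_cast hcard
      have : (Nat.card H : ℂ)⁻¹ * ((Finset.univ.filter
          (fun u => Quotient.mk (MulAction.orbitRel H U) u = Quotient.mk _ u₀)).card : ℂ) * w u₀ *
            ((Nat.card (MulAction.stabilizer H u₀) : ℂ) * m u₀) = w u₀ * m u₀ := by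
        have h0 : (Nat.card H : ℂ) ≠ 0 := Nat.cast_ne_zero.mpr Nat.card_pos.ne'
        field_simp
        linear_combination (w u₀ * m u₀) * hc'
      rw [this]
      exact (hw u₀).mul (isIntegral_nat _)

end Cfsg.Agent.Blocks88.RealVector
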