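import Cfsg.Agent.Blocks88.RealVector.Gauss
import Cfsg.Agent.Blocks88.Basic
import Mathlib.LinearAlgebra.Matrix.ToLin
import Mathlib.LinearAlgebra.Trace

/-!
# Square roots of `|U : C_U(h)|` from invariant alternating forms

The operators attached to `h` intertwine the twisted translations by `u` and by `h • u`.
-/

set_option autoImplicit false

open scoped ComplexConjugate Matrix
open Cfsg.Agent.BlocksCore

namespace Cfsg.Agent.Blocks88.RealVector

universe u v w

variable {p : ℕ} [hp : Fact p.Prime]

theorem map_conj_character {H : Type u} [Group H] [Fintype H] {χ : H → ℂ}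
    (hχ : Cfsg.IsCharacter H χ) (σ : ℂ →+* ℂ) (h : H) : σ (conj (χ h)) = conj (σ (χ h)) := by
  obtain ⟨m, rfl⟩ := CharCore.IsCharacter.exists_sum hχ
  have key : ∀ θ : Cfsg.IrrCharacter H, σ (conj ((θ : H → ℂ) h)) = conj (σ ((θ : H → ℂ) h)) := by
    intro θ
    rw [← CharCore.irr_apply_inv θ h]
    exact CharCore.irr_apply_inv (galoisIrr σ θ) h
  simp only [Finset.sum_apply, Pi.smul_apply, smul_eq_mul, map_sum, map_mul, map_natCast, key]

section Algebra

variable {U : Type v} [AddCommGroup U] [Fintype U] [DecidableEq U] {R : Type w} [CommRing R]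
  (ω : AddChar (ZMod p) R) (c : U → U → ZMod p)

/-- A twisted translation. -/
def eMat (a : U) : Matrix U U R := fun i j => if i = a + j then ω (c a j) else 0

/-- Its inverse. -/
def fMat (a : U) : Matrix U U R := ω (c a a) • eMat ω c (-a)

variable {ω c} (hl : ∀ x y z, c (x + y) z = c x z + c y z) (hr : ∀ x y z, c x (y + z) = c x y + c x z)

include hl in
theorem form_zero_left (z : U) : c 0 z = 0 := by
  have := hl 0 0 z
  rwa [add_zero, left_eq_add] at this

include hl in
theorem form_neg_left (x z : U) : c (-x) z = -c x z := by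
  have := hl (-x) x z
  rw [neg_add_cancel, form_zero_left hl] at this
  linear_combination -this

include hr in
theorem form_neg_right (x z : U) : c x (-z) = -c x z := by
  have h0 : c x 0 = 0 := by
    have := hr x 0 0
    rwa [add_zero, left_eq_add] at this
  have := hr x (-z) z
  rw [neg_add_cancel, h0] at this
  linear_combination -this

include hl hr in
theorem eMat_mul (a b : U) : eMat ω c a * eMat ω c b = ω (c a b) • eMat ω c (a + b) := by
  ext i j
  rw [Matrix.mul_apply, Finset.sum_eq_single (b + j)]
  · simp only [eMat, if_true, Matrix.smul_apply, smul_eq_mul, add_assoc, ite_mul, zero_mul,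
      mul_ite, mul_zero]
    refine if_congr Iff.rfl ?_ rfl
    rw [← AddChar.map_add_eq_mul, ← AddChar.map_add_eq_mul, hr, hl]
    congr 1
    ring
  · intro x _ hx
    simp [eMat, hx]
  · simp

include hl in
theorem eMat_zero : eMat ω c (0 : U) = 1 := by
  ext i j
  simp [eMat, Matrix.one_apply, form_zero_left hl]

theorem trace_eMat (hl : ∀ x y z, c (x + y) z = c x z + c y z) (a : U) :
    (eMat ω c a).trace = if a = 0 then (Fintype.card U : R) else 0 := by
  by_cases ha : a = 0
  · subst ha
    rw [eMat_zero hl, Matrix.trace_one, if_pos rfl]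
  · rw [if_neg ha, Matrix.trace]
    refine Finset.sum_eq_zero fun i _ => ?_
    rw [Matrix.diag_apply, eMat, if_neg]
    rw [right_eq_add]
    exact ha

include hl hr in
theorem eMat_mul_fMat (a : U) : eMat ω c a * fMat ω c a = 1 := by
  rw [fMat, Matrix.mul_smul, eMat_mul hl hr, smul_smul, add_neg_cancel, eMat_zero hl,
    ← AddChar.map_add_eq_mul, form_neg_right hr, add_neg_cancel, AddChar.map_zero_eq_one, one_smul]

include hl hr in
theorem fMat_mul_eMat (a : U) : fMat ω c a * eMat ω c a = 1 :=
  mul_eq_one_comm.mp (eMat_mul_fMat hl hr a)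

include hl hr in
theorem smul_fMat (x u : U) : ω (c x u) • fMat ω c u = fMat ω c (x + u) * eMat ω c x := by
  calc ω (c x u) • fMat ω c u
      = fMat ω c (x + u) * (ω (c x u) • eMat ω c (x + u)) * fMat ω c u := by
        rw [Matrix.mul_smul, fMat_mul_eMat hl hr, smul_mul_assoc, one_mul]
    _ = fMat ω c (x + u) * eMat ω c x * (eMat ω c u * fMat ω c u) := by
        rw [← eMat_mul hl hr]
        simp only [mul_assoc]
    _ = _ := by rw [eMat_mul_fMat hl hr, mul_one]

theorem map_eMat {R' : Type*} [CommRing R'] (φ : R →+* R') (a : U) :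
    (eMat ω c a).map φ = eMat (φ.toMonoidHom.compAddChar ω) c a := by
  ext i j
  simp only [Matrix.map_apply, eMat, apply_ite φ, map_zero]
  rfl

theorem map_fMat {R' : Type*} [CommRing R'] (φ : R →+* R') (a : U) :
    (fMat ω c a).map φ = fMat (φ.toMonoidHom.compAddChar ω) c a := by
  rw [fMat, fMat, ← map_eMat]
  ext i j
  simp

/-- The product attached to a point. -/
def term {H : Type*} [SMul H U] (ω : AddChar (ZMod p) R) (c : U → U → ZMod p) (h : H) (u : U) :
    Matrix U U R :=
  eMat ω c (h • u) * fMat ω c u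

variable {H : Type u} [Group H] [DistribMulAction H U] (hci : ∀ (h : H) x y, c (h • x) (h • y) = c x y)

include hl hr hci in
theorem term_add_fix (h : H) (u d : U) (hd : h • d = d) : term ω c h (u + d) = term ω c h u := by
  have e : c (h • u) d = c u d := by
    conv_lhs => rw [← hd]
    exact hci h u d
  have e2 : fMat ω c (u + d) = ω (c u d) • (fMat ω c d * fMat ω c u) := by
    rw [← smul_mul_assoc, smul_fMat hl hr, mul_assoc, eMat_mul_fMat hl hr, mul_one]
  rw [term, term, smul_add, hd, e2, Matrix.mul_smul, ← smul_mul_assoc, ← e, ← eMat_mul hl hr,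
    mul_assoc, ← mul_assoc (eMat ω c d), eMat_mul_fMat hl hr, one_mul]

end Algebra

section Complex

variable {H : Type u} [Group H] {U : Type v} [AddCommGroup U] [DistribMulAction H U] [Fintype U]
  [DecidableEq U] {c : U → U → ZMod p} (hl : ∀ x y z, c (x + y) z = c x z + c y z)
  (hr : ∀ x y z, c x (y + z) = c x y + c x z)

include hl hr in
theorem conjTranspose_eMat (a : U) : (eMat (ψ p) c a)ᴴ = fMat (ψ p) c a := by
  ext i j
  simp only [Matrix.conjTranspose_apply, fMat, Matrix.smul_apply, eMat, smul_eq_mul]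
  have hiff : (j = a + i) ↔ (i = -a + j) := by
    constructor <;> rintro rfl <;> abel
  by_cases hij : j = a + i
  · rw [if_pos hij, if_pos (hiff.mp hij), RCLike.star_def, conj_ψ, ← AddChar.map_add_eq_mul,
      form_neg_left hl, hij, hr]
    congr 1
    ring
  · rw [if_neg hij, if_neg (hiff.not.mp hij), star_zero, mul_zero]

include hl hr in
theorem conjTranspose_fMat (a : U) : (fMat (ψ p) c a)ᴴ = eMat (ψ p) c a := by
  rw [← conjTranspose_eMat hl hr, Matrix.conjTranspose_conjTranspose]

/-- The span of the twisted translations. -/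
noncomputable def twistedSpan (c : U → U → ZMod p) : Submodule ℂ (Matrix U U ℂ) :=
  Submodule.span ℂ (Set.range (eMat (ψ p) c))

theorem eMat_mem (a : U) : eMat (ψ p) c a ∈ twistedSpan c :=
  Submodule.subset_span ⟨a, rfl⟩

theorem fMat_mem (a : U) : fMat (ψ p) c a ∈ twistedSpan c :=
  Submodule.smul_mem _ _ (eMat_mem _)

include hl hr in
theorem mul_mem_twistedSpan {X Y : Matrix U U ℂ} (hX : X ∈ twistedSpan c) (hY : Y ∈ twistedSpan c) :
    X * Y ∈ twistedSpan c := by
  induction hX using Submodule.span_induction with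
  | mem x hx =>
    obtain ⟨a, rfl⟩ := hx
    induction hY using Submodule.span_induction with
    | mem y hy =>
      obtain ⟨b, rfl⟩ := hy
      rw [eMat_mul hl hr]
      exact Submodule.smul_mem _ _ (eMat_mem _)
    | zero => simp
    | add y z _ _ h1 h2 => rw [mul_add]; exact Submodule.add_mem _ h1 h2
    | smul r y _ h1 => rw [Matrix.mul_smul]; exact Submodule.smul_mem _ _ h1
  | zero => simp
  | add y z _ _ h1 h2 => rw [add_mul]; exact Submodule.add_mem _ h1 h2
  | smul r y _ h1 => rw [smul_mul_assoc]; exact Submodule.smul_mem _ _ h1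

variable (hnd : ∀ w, (∀ u, c u w = c w u) → w = 0)

include hl hr hnd in
/-- Only scalars commute with the twisted translations. -/
theorem eq_scalar_of_commute {X : Matrix U U ℂ} (hX : X ∈ twistedSpan c)
    (hc : ∀ a, eMat (ψ p) c a * X = X * eMat (ψ p) c a) :
    X = (X.trace / (Fintype.card U : ℂ)) • 1 := by
  have hU0 : (Fintype.card U : ℂ) ≠ 0 := Nat.cast_ne_zero.mpr Fintype.card_ne_zero
  have key : ∀ Y ∈ twistedSpan c, ∑ a : U, eMat (ψ p) c a * Y * fMat (ψ p) c a = Y.trace • 1 := by
    intro Y hY
    induction hY using Submodule.span_induction with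
    | mem y hy =>
      obtain ⟨w, rfl⟩ := hy
      have e : ∀ a, eMat (ψ p) c a * eMat (ψ p) c w * fMat (ψ p) c a =
          ψ p (c a w - c w a) • eMat (ψ p) c w := by
        intro a
        rw [eMat_mul hl hr, add_comm a w, smul_mul_assoc, sub_eq_add_neg, AddChar.map_add_eq_mul,
          mul_smul]
        congr 1
        have h1 : eMat (ψ p) c w * eMat (ψ p) c a * fMat (ψ p) c a = eMat (ψ p) c w := by
          rw [mul_assoc, eMat_mul_fMat hl hr, mul_one]
        rw [eMat_mul hl hr, smul_mul_assoc] at h1
        conv_rhs => rw [← h1, smul_smul, ← AddChar.map_add_eq_mul, neg_add_cancel,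
          AddChar.map_zero_eq_one, one_smul]
      simp only [e, ← Finset.sum_smul, trace_eMat hl]
      by_cases hw : w = 0
      · subst hw
        simp [eMat_zero hl, form_zero_left hl, show ∀ a, c a (0 : U) = 0 from fun a => by
          have := hr a 0 0
          rwa [add_zero, left_eq_add] at this]
      · rw [if_neg hw, zero_smul]
        let χ : AddChar U ℂ :=
          { toFun := fun a => ψ p (c a w - c w a)
            map_zero_eq_one' := by
              have := hr w 0 0
              rw [add_zero, left_eq_add] at this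
              simp [form_zero_left hl, this]
            map_add_eq_mul' := fun a b => by
              rw [← AddChar.map_add_eq_mul, hl, hr]
              congr 1
              ring }
        have hχ : χ ≠ 1 := by
          intro h
          refine hw (hnd w fun u => ?_)
          by_contra hne
          refine ψ_ne_one (sub_ne_zero.mpr hne) ?_
          have := congrArg (fun χ : AddChar U ℂ => χ u) h
          simpa [χ] using this
        rw [show ∑ a, ψ p (c a w - c w a) = ∑ a, χ a from rfl, AddChar.sum_eq_zero_of_ne_one hχ,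
          zero_smul]
    | zero => simp
    | add y z _ _ h1 h2 =>
      simp only [mul_add, add_mul, Finset.sum_add_distrib, h1, h2, Matrix.trace_add, add_smul]
    | smul r y _ h1 =>
      simp only [Matrix.mul_smul, smul_mul_assoc, ← Finset.smul_sum, h1, Matrix.trace_smul,
        smul_smul, smul_eq_mul]
  have h1 := key X hX
  simp only [hc, mul_assoc, eMat_mul_fMat hl hr, mul_one, Finset.sum_const, Finset.card_univ] at h1
  rw [← Nat.cast_smul_eq_nsmul ℂ] at h1
  rw [div_eq_inv_mul, ← smul_smul, ← h1, smul_smul, inv_mul_cancel₀ hU0, one_smul]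

/-- The intertwiner of `h`. -/
noncomputable def weilOp (c : U → U → ZMod p) (h : H) : Matrix U U ℂ := ∑ u : U, term (ψ p) c h u

include hl hr in
theorem weilOp_mem (h : H) : weilOp c h ∈ twistedSpan c :=
  Submodule.sum_mem _ fun _ _ => mul_mem_twistedSpan hl hr (eMat_mem _) (fMat_mem _)

variable (hci : ∀ (h : H) x y, c (h • x) (h • y) = c x y)

include hl hr hci in
theorem eMat_mul_weilOp (h : H) (x : U) :
    eMat (ψ p) c (h • x) * weilOp c h = weilOp c h * eMat (ψ p) c x := by
  rw [weilOp, Finset.mul_sum, Finset.sum_mul]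
  conv_rhs => rw [← Equiv.sum_comp (Equiv.addLeft x)]
  refine Finset.sum_congr rfl fun u _ => ?_
  rw [Equiv.coe_addLeft, term, term, smul_add, ← mul_assoc, eMat_mul hl hr, hci, smul_mul_assoc,
    ← Matrix.mul_smul, smul_fMat hl hr, mul_assoc]

include hl hr hci in
theorem conjTranspose_weilOp_mem (h : H) : (weilOp c h)ᴴ ∈ twistedSpan c := by
  rw [weilOp, Matrix.conjTranspose_sum]
  refine Submodule.sum_mem _ fun u _ => ?_
  rw [term, Matrix.conjTranspose_mul, conjTranspose_eMat hl hr, conjTranspose_fMat hl hr]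
  exact mul_mem_twistedSpan hl hr (eMat_mem _) (fMat_mem _)

include hl hr hci in
theorem eMat_mul_star_weilOp (h : H) (x : U) :
    eMat (ψ p) c x * (weilOp c h)ᴴ = (weilOp c h)ᴴ * eMat (ψ p) c (h • x) := by
  have h1 := congrArg Matrix.conjTranspose (eMat_mul_weilOp hl hr hci h x)
  rw [Matrix.conjTranspose_mul, Matrix.conjTranspose_mul, conjTranspose_eMat hl hr,
    conjTranspose_eMat hl hr] at h1
  have h2 := congrArg (fun Z => eMat (ψ p) c x * Z * eMat (ψ p) c (h • x)) h1
  simp only [mul_assoc, fMat_mul_eMat hl hr, mul_one] at h2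
  rw [h2, ← mul_assoc (eMat (ψ p) c x), eMat_mul_fMat hl hr, one_mul]

include hl hr hci in
theorem trace_weilOp (h : H) :
    (weilOp c h).trace = (Fintype.card U : ℂ) * (fixCard U h : ℂ) := by
  classical
  have e : ∀ u, (term (ψ p) c h u).trace = if h • u = u then (Fintype.card U : ℂ) else 0 := by
    intro u
    by_cases hu : h • u = u
    · rw [term, hu, eMat_mul_fMat hl hr, Matrix.trace_one, if_pos rfl]
    · rw [term, fMat, Matrix.mul_smul, eMat_mul hl hr, Matrix.trace_smul, Matrix.trace_smul,
        trace_eMat hl, if_neg hu, if_neg]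
      · simp
      · rw [← sub_eq_add_neg, sub_eq_zero]
        exact hu
  rw [weilOp, Matrix.trace_sum, Finset.sum_congr rfl fun u _ => e u, ← Finset.sum_filter,
    Finset.sum_const, nsmul_eq_mul, mul_comm, fixCard, Nat.card_eq_fintype_card,
    Fintype.card_subtype]

include hl hr hnd hci in
theorem star_mul_weilOp (h : H) :
    (weilOp c h)ᴴ * weilOp c h = ((Fintype.card U * fixCard U h : ℕ) : ℂ) • 1 := by
  classical
  have hmem := mul_mem_twistedSpan hl hr (conjTranspose_weilOp_mem hl hr hci h)
    (weilOp_mem hl hr h)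
  have hcomm : ∀ x, eMat (ψ p) c x * ((weilOp c h)ᴴ * weilOp c h) =
      (weilOp c h)ᴴ * weilOp c h * eMat (ψ p) c x := fun x => by
    rw [← mul_assoc, eMat_mul_star_weilOp hl hr hci, mul_assoc, eMat_mul_weilOp hl hr hci,
      mul_assoc]
  rw [eq_scalar_of_commute hl hr hnd hmem hcomm]
  congr 1
  have hu : ∀ u u', ((term (ψ p) c h u)ᴴ * term (ψ p) c h u').trace =
      if h • (u' - u) = u' - u then (Fintype.card U : ℂ) else 0 := by
    intro u u'
    by_cases hd : h • (u' - u) = u' - u
    · have := term_add_fix (ω := ψ p) hl hr hci h u _ hd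
      rw [add_sub_cancel] at this
      rw [this, term, Matrix.conjTranspose_mul, conjTranspose_eMat hl hr,
        conjTranspose_fMat hl hr, mul_assoc, ← mul_assoc (fMat (ψ p) c (h • u)),
        fMat_mul_eMat hl hr, one_mul, eMat_mul_fMat hl hr, Matrix.trace_one, if_pos hd]
    · rw [term, term, Matrix.conjTranspose_mul, conjTranspose_eMat hl hr,
        conjTranspose_fMat hl hr, fMat, fMat]
      simp only [Matrix.mul_smul, smul_mul_assoc, eMat_mul hl hr, smul_smul, Matrix.trace_smul,
        trace_eMat hl]
      rw [if_neg hd, if_neg, smul_zero]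
      intro h0
      apply hd
      rw [smul_sub, ← sub_eq_zero]
      calc h • u' - h • u - (u' - u) = u + -(h • u) + (h • u' + -u') := by abel
        _ = 0 := h0
  rw [weilOp, Matrix.conjTranspose_sum, Finset.sum_mul, Matrix.trace_sum,
    Finset.sum_congr rfl fun u _ => by
      rw [Finset.mul_sum, Matrix.trace_sum, Finset.sum_congr rfl fun u' _ => hu u u']]
  have hfib : ∀ u : U, ∑ u' : U, (if h • (u' - u) = u' - u then (Fintype.card U : ℂ) else 0) =
      (Fintype.card U : ℂ) * (fixCard U h : ℂ) := fun u => by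
    rw [← Equiv.sum_comp (Equiv.addRight u)]
    simp only [Equiv.coe_addRight, add_sub_cancel_right, ← Finset.sum_filter, Finset.sum_const,
      nsmul_eq_mul, fixCard, Nat.card_eq_fintype_card, Fintype.card_subtype, mul_comm]
  rw [Finset.sum_congr rfl fun u _ => hfib u, Finset.sum_const, Finset.card_univ, nsmul_eq_mul,
    mul_div_cancel_left₀ _ (Nat.cast_ne_zero.mpr Fintype.card_ne_zero), Nat.cast_mul]

/-- A cocycle with values in a commutative group whose order and exponent are coprime splits. -/
theorem exists_split {A : Type w} [CommGroup A] [Fintype H] (α : H → H → A) {n : ℕ}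
    (hn : n.Coprime (Fintype.card H)) (d : H → A)
    (hd : ∀ h k, α h k ^ n * d (h * k) = d h * d k)
    (hassoc : ∀ h k l, α h k * α (h * k) l = α h (k * l) * α k l) :
    ∃ γ : H → A, ∀ h k, α h k * γ (h * k) = γ h * γ k := by
  set f : H → A := fun h => ∏ l, α h l with hf
  have hM : ∀ h k, α h k ^ Fintype.card H * f (h * k) = f h * f k := by
    intro h k
    calc α h k ^ Fintype.card H * f (h * k) = ∏ l, α h k * α (h * k) l := by
          rw [Finset.prod_mul_distrib, Finset.prod_const, Finset.card_univ]
      _ = ∏ l, α h (k * l) * α k l := Finset.prod_congr rfl fun l _ => hassoc h k l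
      _ = _ := by
          rw [Finset.prod_mul_distrib]
          congr 1
          exact Equiv.prod_comp (Equiv.mulLeft k) fun l => α h l
  set a := Nat.gcdA n (Fintype.card H)
  set b := Nat.gcdB n (Fintype.card H)
  refine ⟨fun h => d h ^ a * f h ^ b, fun h k => ?_⟩
  have hg : (1 : ℤ) = (n : ℤ) * a + (Fintype.card H : ℤ) * b := by
    rw [← Nat.gcd_eq_gcd_ab, hn.gcd_eq_one, Nat.cast_one]
  have e : α h k = (α h k ^ n) ^ a * (α h k ^ Fintype.card H) ^ b := by
    rw [← zpow_natCast, ← zpow_natCast, ← zpow_mul, ← zpow_mul, ← zpow_add, ← hg, zpow_one]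
  rw [e, mul_mul_mul_comm, ← mul_zpow, ← mul_zpow, hd, hM, mul_zpow, mul_zpow, mul_mul_mul_comm]

include hl hr hnd hci in
/-- The twisted algebra construction. -/
theorem exists_eta_weil [Fintype H] {M : Ideal Cfsg.AlgInt} (hM : Cfsg.IsPModular p M)
    (hU : ∀ u : U, p • u = 0) (hcop : (Nat.card H).Coprime p) :
    ∃ f : H → ℂ, Eta M U f := by
  classical
  have := isPrime hM
  set S : H → Matrix U U ℂ := weilOp c with hS
  set s : H → ℂ := fun h => ((Fintype.card U * fixCard U h : ℕ) : ℂ) with hs
  have hfix0 : ∀ h : H, fixCard U h ≠ 0 := fun h => by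
    rw [fixCard]
    haveI : Nonempty {u : U // h • u = u} := ⟨⟨0, smul_zero h⟩⟩
    exact Nat.card_pos.ne'
  have hs0 : ∀ h, s h ≠ 0 := fun h =>
    Nat.cast_ne_zero.mpr (mul_ne_zero Fintype.card_ne_zero (hfix0 h))
  have hSS : ∀ h, (S h)ᴴ * S h = s h • 1 := fun h => star_mul_weilOp hl hr hnd hci h
  have hSS' : ∀ h, S h * (S h)ᴴ = s h • 1 := fun h => by
    have h1 : ((s h)⁻¹ • (S h)ᴴ) * S h = 1 := by
      rw [smul_mul_assoc, hSS, smul_smul, inv_mul_cancel₀ (hs0 h), one_smul]
    have h2 := mul_eq_one_comm.mp h1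
    rw [Matrix.mul_smul] at h2
    rw [← h2, smul_smul, mul_inv_cancel₀ (hs0 h), one_smul]
  have hdet : ∀ h, (S h).det ≠ 0 := fun h h0 => by
    have := congrArg Matrix.det (hSS h)
    rw [Matrix.det_mul, h0, mul_zero, Matrix.det_smul, Matrix.det_one, mul_one] at this
    exact pow_ne_zero _ (hs0 h) this.symm
  have hprod : ∀ h k, ∃ t : ℂ, S h * S k = t • S (h * k) := by
    intro h k
    have hmem := mul_mem_twistedSpan hl hr (conjTranspose_weilOp_mem hl hr hci (h * k))
      (mul_mem_twistedSpan hl hr (weilOp_mem hl hr h) (weilOp_mem hl hr k))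
    have hcomm : ∀ x, eMat (ψ p) c x * ((S (h * k))ᴴ * (S h * S k)) =
        (S (h * k))ᴴ * (S h * S k) * eMat (ψ p) c x := fun x => by
      rw [← mul_assoc, eMat_mul_star_weilOp hl hr hci, mul_assoc, ← mul_assoc (eMat (ψ p) c _),
        mul_smul h k x, eMat_mul_weilOp hl hr hci, mul_assoc (S h), eMat_mul_weilOp hl hr hci]
      simp only [mul_assoc, hS]
    refine ⟨(s (h * k))⁻¹ *
      (((S (h * k))ᴴ * (S h * S k)).trace / (Fintype.card U : ℂ)), ?_⟩
    have h1 := congrArg (fun Z => S (h * k) * Z) (eq_scalar_of_commute hl hr hnd hmem hcomm)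
    rw [← mul_assoc, hSS', smul_mul_assoc, one_mul, Matrix.mul_smul, mul_one] at h1
    rw [← smul_smul, ← h1, smul_smul, inv_mul_cancel₀ (hs0 _), one_smul]
  choose t ht using hprod
  have ht0 : ∀ h k, t h k ≠ 0 := fun h k h0 => by
    have := congrArg Matrix.det (ht h k)
    rw [Matrix.det_mul, h0, zero_smul, Matrix.det_zero] at this
    exact mul_ne_zero (hdet h) (hdet k) this
  have hSne : ∀ h, S h ≠ 0 := fun h h0 => hdet h (by rw [h0, Matrix.det_zero])
  have hassoc : ∀ h k l, t h k * t (h * k) l = t h (k * l) * t k l := by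
    intro h k l
    have e1 : (t h k * t (h * k) l) • S (h * k * l) = (t h (k * l) * t k l) • S (h * (k * l)) := by
      calc (t h k * t (h * k) l) • S (h * k * l) = S h * S k * S l := by
            rw [ht, smul_mul_assoc, ht, smul_smul]
        _ = _ := by
            rw [mul_assoc (S h), ht k l, Matrix.mul_smul, ht, smul_smul, mul_comm]
    rw [mul_assoc h] at e1
    exact smul_left_injective ℂ (hSne _) e1
  have hcopU : (Fintype.card U).Coprime (Fintype.card H) := by
    have h1 := coprime_fixCard (U := U) hU hcop (1 : H)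
    rwa [fixCard, Nat.card_congr (Equiv.subtypeUnivEquiv fun u : U => one_smul H u),
      Nat.card_eq_fintype_card, Nat.card_eq_fintype_card] at h1
  obtain ⟨γu, hγu⟩ := exists_split (fun h k => Units.mk0 (t h k) (ht0 h k)) hcopU
    (fun h => Units.mk0 (S h).det (hdet h))
    (fun h k => by
      ext
      simp only [Units.val_mul, Units.val_pow_eq_pow_val, Units.val_mk0]
      rw [← Matrix.det_mul, ht, Matrix.det_smul])
    (fun h k l => by ext; simpa using hassoc h k l)
  set γ : H → ℂ := fun h => (γu h : ℂ) with hγ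
  have hγm : ∀ h k, t h k * γ (h * k) = γ h * γ k := fun h k => by
    simpa using congrArg Units.val (hγu h k)
  have hγ0 : ∀ h, γ h ≠ 0 := fun h => Units.ne_zero _
  set T : H → Matrix U U ℂ := fun h => (γ h)⁻¹ • S h with hT
  have hTmul : ∀ h k, T (h * k) = T h * T k := by
    intro h k
    have h0 := hγ0 (h * k)
    have h1 := hγ0 h
    have h2 := hγ0 k
    simp only [hT, smul_mul_assoc, Matrix.mul_smul, ht, smul_smul]
    congr 1
    field_simp
    linear_combination -(hγm h k)
  have hT1 : T 1 = 1 := by
    have hu : IsUnit (T 1) := (Matrix.isUnit_iff_isUnit_det _).mpr (by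
      rw [hT, Matrix.det_smul]
      exact (mul_ne_zero (pow_ne_zero _ (inv_ne_zero (hγ0 1))) (hdet 1)).isUnit)
    have := hTmul 1 1
    rw [mul_one] at this
    exact hu.mul_eq_left.mp this.symm
  let Tm : H →* Matrix U U ℂ := { toFun := T, map_one' := hT1, map_mul' := hTmul }
  let ρ : Representation ℂ H (U → ℂ) :=
    (Matrix.toLinAlgEquiv' (R := ℂ) (n := U)).toMonoidHom.comp Tm
  set χ : H → ℂ := ρ.character with hχ
  have hχT : ∀ h, χ h = (T h).trace := fun h => Matrix.trace_toLin'_eq (T h)
  have hχchar : Cfsg.IsCharacter H χ := CharCore.isCharacter_character ρ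
  have hχval : ∀ h, χ h = (γ h)⁻¹ * s h := fun h => by
    rw [hχT]
    simp only [hT, hs, Matrix.trace_smul, smul_eq_mul, hS, trace_weilOp hl hr hci, Nat.cast_mul]
  have hord : ∀ (h : H) m, h ^ m = 1 → T h ^ m = 1 := fun h m hm => by
    rw [show T h = Tm h from rfl, ← map_pow, hm, map_one]
  have hnormγ : ∀ h, γ h * conj (γ h) = s h := by
    intro h
    set r : ℂ := s h / (γ h * conj (γ h)) with hr'
    have hTT : (T h)ᴴ * T h = r • 1 := by
      simp only [hT, Matrix.conjTranspose_smul, smul_mul_assoc, Matrix.mul_smul, smul_smul, hSS,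
        hr', RCLike.star_def, map_inv₀]
      congr 1
      field_simp
    have hpow : ∀ j : ℕ, (T h ^ j)ᴴ * T h ^ j = r ^ j • 1 := by
      intro j
      induction j with
      | zero => simp
      | succ j ih =>
        have e : T h ^ (j + 1) = T h ^ j * T h := pow_succ _ _
        rw [e, Matrix.conjTranspose_mul, mul_assoc, ← mul_assoc (T h ^ j)ᴴ, ih, smul_mul_assoc,
          one_mul, Matrix.mul_smul, hTT, smul_smul, pow_succ]
    have h1 := hpow (Fintype.card H)
    rw [hord h _ pow_card_eq_one, Matrix.conjTranspose_one, one_mul] at h1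
    have hr1 : r ^ Fintype.card H = 1 := by
      have := congrFun (congrFun h1 0) 0
      simpa using this.symm
    have hreal : r = ((‖s h‖ / Complex.normSq (γ h) : ℝ) : ℂ) := by
      rw [hr', Complex.mul_conj, hs, Complex.ofReal_div, Complex.norm_natCast]
      norm_num
    rw [hreal, ← Complex.ofReal_pow, Complex.ofReal_eq_one] at hr1
    have hr2 := (pow_eq_one_iff_of_nonneg (div_nonneg (norm_nonneg _) (Complex.normSq_nonneg _))
      Fintype.card_ne_zero).mp hr1
    rw [hr2, Complex.ofReal_one, hr', div_eq_one_iff_eq (by simp [hγ0])] at hreal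
    exact hreal.symm
  -- the normalised intertwiner
  have hint : ∀ h, IsIntegral ℤ (conj (γ h) / (fixCard U h : ℂ)) ∧
      (fixCard U h ≠ Nat.card U → MemLocalIdeal M (conj (γ h) / (fixCard U h : ℂ))) := by
    intro h
    have hW : ∀ w : movSub U h, ∃ y : U, h • y - y = (w : U) := fun w => mem_movSub.mp w.2
    choose y hy using hW
    set φ : fixSub U h × movSub U h → U := fun x => y x.2 + x.1 with hφ
    have hφb : Function.Bijective φ := by
      have hinj : Function.Injective φ := by
        intro x x' e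
        have h1 := congrArg (fun z : U => h • z - z) e
        simp only [hφ, smul_add, mem_fixSub.mp x.1.2, mem_fixSub.mp x'.1.2,
          add_sub_add_right_eq_sub, hy] at h1
        have h2 : x.2 = x'.2 := Subtype.ext h1
        simp only [hφ, h2, add_right_inj] at e
        exact Prod.ext (Subtype.ext e) h2
      refine hinj.bijective_of_nat_card_le (le_of_eq ?_)
      rw [Nat.card_prod, fixSub, movSub, ← AddSubgroup.index_ker, AddSubgroup.card_mul_index]
    let ωA : AddChar (ZMod p) Cfsg.AlgInt :=
      { toFun := fun a => ⟨ψ p (-a), isIntegral_ψ _⟩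
        map_zero_eq_one' := Subtype.ext (by simp)
        map_add_eq_mul' := fun a b => Subtype.ext (by simp [neg_add, AddChar.map_add_eq_mul, mul_comm]) }
    set S₀ : Matrix U U Cfsg.AlgInt := ∑ w : movSub U h, term ωA c h (y w) with hS₀
    let ι : Cfsg.AlgInt →+* ℂ := (starRingEnd ℂ).comp Cfsg.AlgInt.val.toRingHom
    have hι : ι.toMonoidHom.compAddChar ωA = ψ p := by
      ext a
      show conj (ψ p (-a)) = ψ p a
      rw [conj_ψ, neg_neg]
    have hmap : ι.mapMatrix S₀ = (fixCard U h : ℂ)⁻¹ • S h := by
      rw [hS₀, map_sum]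
      have hSeq : S h = (fixCard U h : ℂ) • ∑ w : movSub U h, term (ψ p) c h (y w) := by
        rw [hS, weilOp, ← Equiv.sum_comp (Equiv.ofBijective φ hφb), Fintype.sum_prod_type]
        simp only [Equiv.ofBijective_apply, hφ,
          fun (x : fixSub U h) w => term_add_fix (ω := ψ p) hl hr hci h (y w) (x : U)
            (mem_fixSub.mp x.2)]
        rw [Finset.sum_const, Finset.card_univ, Nat.cast_smul_eq_nsmul, ← Nat.card_eq_fintype_card,
          card_fixSub]
      rw [hSeq, smul_smul, inv_mul_cancel₀ (Nat.cast_ne_zero.mpr (hfix0 h)), one_smul]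
      refine Finset.sum_congr rfl fun w _ => ?_
      rw [term, map_mul, RingHom.mapMatrix_apply, RingHom.mapMatrix_apply, map_eMat, map_fMat, hι]
      rfl
    set μ : ℂ := γ h / (fixCard U h : ℂ) with hμ
    have hμT : ι.mapMatrix S₀ = μ • T h := by
      rw [hmap, hT, smul_smul]
      congr 1
      rw [hμ]
      field_simp [hγ0 h]
    set m := Fintype.card H * 2 with hm
    have hm0 : m ≠ 0 := mul_ne_zero Fintype.card_ne_zero two_ne_zero
    have hμm : ι ((S₀ ^ m) 0 0) = μ ^ m := by
      have : ι.mapMatrix (S₀ ^ m) = μ ^ m • 1 := by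
        rw [map_pow, hμT, smul_pow, hord h m (by rw [hm, pow_mul, pow_card_eq_one, one_pow])]
      simpa using congrFun (congrFun this 0) 0
    have hμi : IsIntegral ℤ μ := IsIntegral.of_pow (Nat.pos_of_ne_zero hm0)
      (by rw [← hμm]; exact isIntegral_conj ((S₀ ^ m) 0 0).2)
    have hconj : conj (γ h) / (fixCard U h : ℂ) = conj μ := by simp [hμ]
    rw [hconj]
    refine ⟨isIntegral_conj hμi, fun hne => ?_⟩
    have hmem : (S₀ ^ m) 0 0 ∈ M := by
      rw [← Ideal.Quotient.eq_zero_iff_mem]
      set π := Ideal.Quotient.mk M with hπ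
      have := charP_quotient hM
      have hω1 : π.toMonoidHom.compAddChar ωA = 1 := by
        ext a
        show π (ωA a) = (1 : AddChar (ZMod p) (Cfsg.AlgInt ⧸ M)) a
        rw [AddChar.one_apply, ← map_one π, Ideal.Quotient.eq]
        exact sub_one_mem_of_pow_prime_pow hM (k := 1) (by
          rw [pow_one]; exact Subtype.ext (ψ_pow (-a)))
      have hS0 : π.mapMatrix S₀ =
          ∑ w : movSub U h, eMat (1 : AddChar (ZMod p) (Cfsg.AlgInt ⧸ M)) c (w : U) := by
        rw [hS₀, map_sum]
        refine Finset.sum_congr rfl fun w _ => ?_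
        rw [term, map_mul, RingHom.mapMatrix_apply, RingHom.mapMatrix_apply, map_eMat, map_fMat,
          hω1, fMat, AddChar.one_apply, one_smul, eMat_mul hl hr, AddChar.one_apply, one_smul,
          ← sub_eq_add_neg, hy]
      have hsq : π.mapMatrix S₀ * π.mapMatrix S₀ = 0 := by
        rw [hS0, Finset.sum_mul]
        simp only [Finset.mul_sum, eMat_mul hl hr, AddChar.one_apply, one_smul, ← AddSubgroup.coe_add]
        have e : ∀ w : movSub U h, ∑ w' : movSub U h,
            eMat (1 : AddChar (ZMod p) (Cfsg.AlgInt ⧸ M)) c ((w + w' : movSub U h) : U) =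
            ∑ w' : movSub U h, eMat (1 : AddChar (ZMod p) (Cfsg.AlgInt ⧸ M)) c (w' : U) := fun w =>
          Equiv.sum_comp (Equiv.addLeft w)
            fun w' : movSub U h => eMat (1 : AddChar (ZMod p) (Cfsg.AlgInt ⧸ M)) c (w' : U)
        rw [Finset.sum_congr rfl fun w _ => e w, Finset.sum_const, Finset.card_univ]
        have hdvd : p ∣ Fintype.card (movSub U h) := by
          have hcard : fixCard U h * Nat.card (movSub U h) = Nat.card U := by
            rw [← card_fixSub, ← Nat.card_prod, Nat.card_congr (Equiv.ofBijective φ hφb)]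
          rw [← Nat.card_eq_fintype_card]
          obtain ⟨r, hr', hrd⟩ := Nat.exists_prime_and_dvd
            (show Nat.card (movSub U h) ≠ 1 from fun e => hne (by rw [← hcard, e, mul_one]))
          have := Fact.mk hr'
          obtain ⟨x, hx⟩ := exists_prime_addOrderOf_dvd_card' r hrd
          have : r ∣ p := hx ▸ addOrderOf_dvd_of_nsmul_eq_zero (Subtype.ext (by simpa using hU x))
          rwa [(Nat.prime_dvd_prime_iff_eq hr' hp.out).mp this] at hrd
        ext i j
        rw [Matrix.smul_apply, nsmul_eq_mul, Matrix.zero_apply,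
          (CharP.cast_eq_zero_iff (Cfsg.AlgInt ⧸ M) p _).mpr hdvd, zero_mul]
      have : π.mapMatrix (S₀ ^ m) = 0 := by
        rw [map_pow, hm, mul_comm, pow_mul, pow_two, hsq, zero_pow Fintype.card_ne_zero]
      exact congrFun (congrFun this 0) 0
    have h1 : MemLocalIdeal M (conj μ ^ m) := by
      rw [← map_pow, ← hμm]
      show MemLocalIdeal M (conj (conj (((S₀ ^ m) 0 0 : Cfsg.AlgInt) : ℂ)))
      rw [Complex.conj_conj]
      exact (memLocalIdeal_coe_iff _).mpr hmem
    exact (memLocalIdeal_pow_iff (memLocalRing_of_isIntegral (isIntegral_conj hμi)) hm0).mp h1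
  set η : H → ℂ := fun h => conj (γ h) / (fixCard U h : ℂ) with hη
  have hηχ : ∀ h, (fixCard U h : ℂ) * η h = χ h := fun h => by
    rw [hη, mul_div_cancel₀ _ (Nat.cast_ne_zero.mpr (hfix0 h)), hχval, ← hnormγ,
      inv_mul_cancel_left₀ (hγ0 h)]
  have hπ := intVirt_fixCard (H := H) (U := U)
  have hcls : Cfsg.IsClassFunction H η := fun h k => by
    have h1 := hπ.cls h k
    have h2 := hηχ (k * h * k⁻¹)
    rw [CharCore.IsCharacter.isClassFunction hχchar h k, ← hηχ h, h1] at h2
    exact mul_left_cancel₀ (Nat.cast_ne_zero.mpr (hfix0 h)) h2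
  refine ⟨η, IntVirt.cancel hπ (coprime_fixCard hU hcop) hcls (fun h => (hint h).1) ?_,
    fun σ h => ?_, ?_, fun h => ?_, fun h => (hint h).2⟩
  · rw [show (fun h => (fixCard U h : ℂ) * η h) = χ from funext hηχ]
    exact IntVirt.of_isCharacter hχchar
  · have h1 := map_conj_character hχchar σ h
    rw [← hηχ h] at h1
    simp only [map_mul, map_natCast] at h1
    exact mul_left_cancel₀ (Nat.cast_ne_zero.mpr (hfix0 h)) h1
  · have h1 := hηχ 1
    rw [hχT, hT1, Matrix.trace_one, fixCard,
      Nat.card_congr (Equiv.subtypeUnivEquiv fun u : U => one_smul H u),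
      Nat.card_eq_fintype_card] at h1
    exact mul_left_cancel₀ (Nat.cast_ne_zero.mpr Fintype.card_ne_zero) (h1.trans (mul_one _).symm)
  · simp only [hη, map_div₀, Complex.conj_conj, map_natCast]
    have := hnormγ h
    simp only [hs, Nat.cast_mul] at this
    have h0 : (fixCard U h : ℂ) ≠ 0 := Nat.cast_ne_zero.mpr (hfix0 h)
    rw [Nat.card_eq_fintype_card]
    field_simp
    linear_combination this

end Complex

end Cfsg.Agent.Blocks88.RealVector
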